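import Cfsg.Agent.SpAmalgam.Cells

/-!
The cosets extend equivariantly to all non-zero vectors, so one more hyperbolic pair may be added;
by downward induction the amalgam maps injectively onto the symplectic group.
-/

set_option autoImplicit false
set_option linter.unusedSectionVars false
set_option linter.unusedSimpArgs false

open Matrix

namespace Cfsg.Agent.SpAmalgam

universe u v

variable {F : Type u} [Field F] {n : ℕ} {U : Type v} [Group U]
variable {π : U →* Sp n F} {A B : Fin n → Subgroup U}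

theorem eich_fvec_identity {k : Fin n} {u : Vec n F} (h1 : om (evec k) u = 0) (h2 : om (fvec k) u = 0)
    {s : F} (hs : s ≠ 0) (t : F) :
    eich (fvec k) u t = (eich (evec k) ((-s⁻¹) • u) 0)⁻¹ * eich (fvec k) 0 s * eich (evec k) ((-s⁻¹) • u) 0 *
      eich (fvec k) 0 (t - s) * eich u 0 (-s⁻¹) := by
  have hw : om (evec k) ((-s⁻¹) • u) = 0 := by rw [om_smul_right, h1, mul_zero]
  have h3 : om u (evec k) = 0 := by rw [om_skew, h1, neg_zero]
  have h4 : om u (fvec k) = 0 := by rw [om_skew, h2, neg_zero]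
  refine ext_ap fun x => ?_
  rw [eich_inv hw]
  simp only [ap_mul, ap_trans, ap_eich h2, ap_eich hw, ap_eich (show om (evec k) (-((-s⁻¹) • u)) = 0 by
    rw [om_neg_right, hw, neg_zero]), om_add_right, om_smul_right, om_smul_left, om_neg_left, om_neg_right,
    h1, h2, h3, h4, om_self, om_evec_fvec, om_fvec_evec, neg_zero, mul_zero, zero_smul, add_zero]
  match_scalars <;> field_simp <;> ring

namespace Step

variable {k k' : Fin n} (S : Step π A B k k')
include S

local notation "L" => lvl A B (k' : ℕ)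

theorem qv_eq_q2 (u : Vec n F) : qv π A B k k' u = S.q2 u 0 := by rw [q2, S.zk_zero, mul_one]

theorem lowR_eq {u : Vec n F} (hu : Supp (k' : ℕ) u) (h0 : u ≠ 0) {s : F} (hs : s ≠ 0) (t : F) :
    ∃ m ∈ L, S.lowR u t = (qv π A B k k' ((-s⁻¹) • u))⁻¹ * vv π A k s * qv π A B k k' ((-s⁻¹) • u) *
      vv π A k (t - s) * m := by
  obtain ⟨m, hm, rfl⟩ := S.exists_mov hu h0
  have hz : zk π A k' (-s⁻¹) ∈ L := le_lvlA le_rfl (S.am.zk_spec k' _).1
  refine ⟨m * zk π A k' (-s⁻¹) * m⁻¹, mul_mem (mul_mem hm hz) (inv_mem hm), ?_⟩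
  have hw : Supp (k' : ℕ) ((-s⁻¹) • evec k' : Vec n F) := S.supp_e'.smul _
  have base : S.lowR (evec k') t = (b0 π B k k' (-s⁻¹))⁻¹ * vv π A k s * b0 π B k k' (-s⁻¹) *
      vv π A k (t - s) * zk π A k' (-s⁻¹) := by
    have hb := fun c => Subgroup.mem_sup_left (T := A k) (S.b0_spec c).1
    have ha := fun {x : U} (hx : x ∈ A k) => Subgroup.mem_sup_right (S := B k) hx
    refine S.freeP.eq ?_ (mul_mem (mul_mem (mul_mem (mul_mem (inv_mem (hb _)) (ha (S.am.vv_spec k s).1)) (hb _))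
      (ha (S.am.vv_spec k _).1)) (Subgroup.mem_sup_left (S.zk'_mem_B _))) ?_
    · rw [lowR, q2, S.qv_e']
      exact mul_mem (mul_mem (ha (S.am.wU_spec k 1).1) (mul_mem (hb 1) (ha (S.am.zk_spec k t).1)))
        (inv_mem (ha (S.am.wU_spec k 1).1))
    · rw [S.pi_lowR S.supp_e', map_mul, map_mul, map_mul, map_mul, map_inv, (S.b0_spec _).2, (S.am.vv_spec k s).2,
        (S.am.vv_spec k _).2, (S.am.zk_spec k' _).2]
      exact eich_fvec_identity (S.om_e S.supp_e').1 (S.om_e S.supp_e').2.1 hs t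
  rw [← S.lowR_conj hm S.supp_e', ← ap_smul, ← S.qv_conj hm hw, S.qv_smul, base]
  have c1 : ∀ t, vv π A k t * m = m * vv π A k t := fun t => S.commAL (S.am.vv_spec k t).1 hm
  calc m * ((b0 π B k k' (-s⁻¹))⁻¹ * vv π A k s * b0 π B k k' (-s⁻¹) * vv π A k (t - s) * zk π A k' (-s⁻¹)) * m⁻¹
      = m * (b0 π B k k' (-s⁻¹))⁻¹ * m⁻¹ * (m * vv π A k s) * b0 π B k k' (-s⁻¹) * m⁻¹ *
          (m * vv π A k (t - s)) * zk π A k' (-s⁻¹) * m⁻¹ := by group
    _ = _ := by rw [← c1, ← c1]; group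

theorem om_e_vv (t : F) (x : Vec n F) :
    om (evec k) (ap (π (vv π A k t)) x) = om (evec k) x - t * om x (fvec k) := by
  rw [(S.am.vv_spec k t).2, ap_trans, om_add_right, om_smul_right, om_evec_fvec, om_skew x (fvec k)]
  ring

theorem supp_ap_lvl {g : U} (hg : g ∈ lvl A B (k : ℕ)) {x : Vec n F} (hx : Supp (k : ℕ) x) :
    Supp (k : ℕ) (ap (π g) x) :=
  hx.ap (S.am.map_lvl_le k (Subgroup.mem_map_of_mem π hg))

theorem ev_lowR {u : Vec n F} (hu : Supp (k' : ℕ) u) (t : F) {x : Vec n F} (hx : Supp (k : ℕ) x)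
    (hb : om (evec k) x ≠ 0) (hb' : om (evec k) (ap (π (S.lowR u t)) x) ≠ 0) : S.Ev (S.lowR u t) x := by
  by_cases hu0 : u = 0
  · subst hu0
    rw [S.lowR_zero_left] at hb' ⊢
    exact S.ev_A (S.am.vv_spec k t).1 hx hb hb'
  obtain ⟨α, hα0, hα1⟩ := S.am.field
  obtain ⟨s, hs, hsb⟩ : ∃ s : F, s ≠ 0 ∧ om (evec k) x - (t - s) * om x (fvec k) ≠ 0 := by
    by_cases h : om (evec k) x - (t - 1) * om x (fvec k) = 0
    · refine ⟨α, hα0, fun h' => ?_⟩
      have : (α - 1) * om x (fvec k) = 0 := by linear_combination h' - h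
      rcases mul_eq_zero.1 this with h2 | h2
      · exact hα1 (sub_eq_zero.1 h2)
      · rw [h2, mul_zero, sub_zero] at h
        exact hb h
    · exact ⟨1, one_ne_zero, h⟩
  obtain ⟨m, hm, he⟩ := S.lowR_eq hu hu0 hs t
  have hw : Supp (k' : ℕ) ((-s⁻¹) • u) := hu.smul _
  have hvl : ∀ t, vv π A k t ∈ lvl A B (k : ℕ) := fun t => le_lvlA le_rfl (S.am.vv_spec k t).1
  rw [S.qv_eq_q2, S.q2_inv hw] at he
  rw [he] at hb' ⊢
  -- along the path
  obtain ⟨e1, e1b, e1a⟩ := S.ev_L hm hx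
  set x1 := ap (π m) x with hx1
  have hx1s : Supp (k : ℕ) x1 := S.supp_ap_lvl (S.L_le hm) hx
  have hx2b : om (evec k) (ap (π (vv π A k (t - s))) x1) ≠ 0 := by rw [S.om_e_vv, e1b, e1a]; exact hsb
  have e2 := S.ev_A (S.am.vv_spec k (t - s)).1 hx1s (by rw [e1b]; exact hb) hx2b
  set x2 := ap (π (vv π A k (t - s))) x1 with hx2
  have hx2s : Supp (k : ℕ) x2 := S.supp_ap_lvl (hvl _) hx1s
  obtain ⟨e3, e3b⟩ := S.ev_q2 hw 0 hx2s hx2b
  set x3 := ap (π (S.q2 ((-s⁻¹) • u) 0)) x2 with hx3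
  have hx3s : Supp (k : ℕ) x3 := S.supp_ap_lvl (S.q2_mem_lvl _ _) hx2s
  set x4 := ap (π (vv π A k s)) x3 with hx4
  have hx4s : Supp (k : ℕ) x4 := S.supp_ap_lvl (hvl _) hx3s
  have hfin : ∀ q : U, ap (π (q * vv π A k s * S.q2 ((-s⁻¹) • u) 0 * vv π A k (t - s) * m)) x = ap (π q) x4 :=
    fun q => by simp only [map_mul, ap_mul, hx1, hx2, hx3, hx4]
  rw [hfin, S.pi_q2 hw.neg, ap_eich (S.om_e hw.neg).1, om_add_right, om_add_right, om_add_right,
    om_smul_right, om_smul_right, om_smul_right, (S.om_e hw.neg).1, om_evec_evec] at hb'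
  simp only [mul_zero, add_zero] at hb'
  obtain ⟨e5, -⟩ := S.ev_q2 hw.neg (-0) hx4s hb'
  exact S.ev_mul e1 (S.ev_mul e2 (S.ev_mul e3
    (S.ev_mul (S.ev_A (S.am.vv_spec k s).1 hx3s (by rw [e3b]; exact hx2b) hb') e5)))

theorem exists_big {x : Vec n F} (hx : Supp (k : ℕ) x) (hne : x ≠ 0) :
    ∃ u t, Supp (k' : ℕ) u ∧ om (evec k) (ap (π (S.lowR u t)) x) ≠ 0 := by
  obtain ⟨a, b, v, hv, rfl⟩ := S.exists_coords hx
  by_cases hb : b ≠ 0
  · exact ⟨0, 0, Supp.zero _, by rwa [S.lowR_zero, map_one, ap_one, (S.coords_mk hv a b).1]⟩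
  push Not at hb
  by_cases ha : a ≠ 0
  · refine ⟨0, 1, Supp.zero _, ?_⟩
    rw [S.lowR_zero_left, S.om_e_vv, (S.coords_mk hv a b).1, (S.coords_mk hv a b).2, hb, one_mul, zero_sub]
    exact neg_ne_zero.2 ha
  push Not at ha
  subst ha hb
  simp only [zero_smul, zero_add, add_zero] at hne hx ⊢
  obtain ⟨z, hz, hzv⟩ := exists_pairing hv hne 1
  refine ⟨z, 0, hz, ?_⟩
  rw [S.pi_lowR hz, ap_eich (S.om_e hz).2.1, om_add_right, om_add_right, om_add_right, om_smul_right,
    om_smul_right, om_smul_right, (S.om_e hv).1, (S.om_e hz).1, om_evec_fvec, hzv]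
  simp

open Classical in
/-- The coset of a non-zero vector. -/
noncomputable def tau (S : Step π A B k k') (x : Vec n F) : U ⧸ S.radK :=
  if h : ∃ p : Vec n F × F, Supp (k' : ℕ) p.1 ∧ om (evec k) (ap (π (S.lowR p.1 p.2)) x) ≠ 0 then
    (S.lowR (Classical.choose h).1 (Classical.choose h).2)⁻¹ •
      S.big (ap (π (S.lowR (Classical.choose h).1 (Classical.choose h).2)) x)
  else S.big x

theorem tau_eq {u : Vec n F} (hu : Supp (k' : ℕ) u) (t : F) {x : Vec n F} (hx : Supp (k : ℕ) x)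
    (hb : om (evec k) (ap (π (S.lowR u t)) x) ≠ 0) :
    S.tau x = (S.lowR u t)⁻¹ • S.big (ap (π (S.lowR u t)) x) := by
  have hex : ∃ p : Vec n F × F, Supp (k' : ℕ) p.1 ∧ om (evec k) (ap (π (S.lowR p.1 p.2)) x) ≠ 0 :=
    ⟨(u, t), hu, hb⟩
  rw [tau, dif_pos hex]
  obtain ⟨h1, h2⟩ := Classical.choose_spec hex
  set u1 := (Classical.choose hex).1
  set t1 := (Classical.choose hex).2
  set y := ap (π (S.lowR u1 t1)) x with hy
  have hys : Supp (k : ℕ) y := S.supp_ap_lvl (S.lowR_mem_lvl _ _) hx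
  have hd : S.lowR u t * (S.lowR u1 t1)⁻¹ = S.lowR (u + -u1) (t + -t1 + om u (-u1)) := by
    rw [S.lowR_inv h1, S.lowR_mul hu h1.neg]
  have hmap : ap (π (S.lowR u t * (S.lowR u1 t1)⁻¹)) y = ap (π (S.lowR u t)) x := by
    rw [map_mul, ap_mul, map_inv, hy, ap_inv_ap]
  have hev : S.Ev (S.lowR u t * (S.lowR u1 t1)⁻¹) y := by
    rw [hd]
    exact S.ev_lowR (hu.add h1.neg) _ hys h2 (by rw [← hd, hmap]; exact hb)
  rw [Ev, hmap] at hev
  rw [← hev, mul_smul, inv_smul_smul]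

theorem tau_big {x : Vec n F} (hx : Supp (k : ℕ) x) (hb : om (evec k) x ≠ 0) : S.tau x = S.big x := by
  rw [S.tau_eq (Supp.zero _) 0 hx (by rwa [S.lowR_zero, map_one, ap_one]), S.lowR_zero, inv_one, one_smul,
    map_one, ap_one]

/-- The elements respecting `tau`. -/
noncomputable def equi (S : Step π A B k k') : Subgroup U where
  carrier := {g | π g ∈ lowFix (k : ℕ) ∧ ∀ x, Supp (k : ℕ) x → x ≠ 0 → g • S.tau x = S.tau (ap (π g) x)}
  one_mem' := ⟨by rw [map_one]; exact one_mem _, fun x _ _ => by rw [one_smul, map_one, ap_one]⟩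
  mul_mem' {g h} hg hh := ⟨by rw [map_mul]; exact mul_mem hg.1 hh.1, fun x hx hne => by
    rw [mul_smul, hh.2 x hx hne, hg.2 _ (hx.ap hh.1) (ap_ne_zero _ hne), map_mul, ap_mul]⟩
  inv_mem' {g} hg := ⟨by rw [map_inv]; exact inv_mem hg.1, fun x hx hne => by
    rw [inv_smul_eq_iff, hg.2 _ (hx.ap (by rw [map_inv]; exact inv_mem hg.1)) (ap_ne_zero _ hne), map_inv,
      ap_ap_inv]⟩

theorem lowR_mem_equi {u : Vec n F} (hu : Supp (k' : ℕ) u) (t : F) : S.lowR u t ∈ S.equi := by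
  have hg : π (S.lowR u t) ∈ lowFix (k : ℕ) :=
    S.am.map_lvl_le k (Subgroup.mem_map_of_mem π (S.lowR_mem_lvl u t))
  refine ⟨hg, fun x hx hne => ?_⟩
  obtain ⟨v, s, hv, hb⟩ := S.exists_big (hx.ap hg) (ap_ne_zero _ hne)
  rw [S.tau_eq hv s (hx.ap hg) hb, S.tau_eq (hv.add hu) (s + t + om v u) hx (by
    rwa [← S.lowR_mul hv hu, map_mul, ap_mul]), ← S.lowR_mul hv hu, map_mul, ap_mul, _root_.mul_inv_rev,
    mul_smul, smul_inv_smul]

theorem L_mem_equi {m : U} (hm : m ∈ L) : m ∈ S.equi := by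
  have hg : π m ∈ lowFix (k : ℕ) := S.am.map_lvl_le k (Subgroup.mem_map_of_mem π (S.L_le hm))
  refine ⟨hg, fun x hx hne => ?_⟩
  obtain ⟨v, s, hv, hb⟩ := S.exists_big hx hne
  have hys : Supp (k : ℕ) (ap (π (S.lowR v s)) x) := S.supp_ap_lvl (S.lowR_mem_lvl _ _) hx
  obtain ⟨e1, e1b, -⟩ := S.ev_L hm hys
  have e : ap (π (S.lowR (ap (π m) v) s)) (ap (π m) x) = ap (π m) (ap (π (S.lowR v s)) x) := by
    rw [← S.lowR_conj hm hv, map_mul, map_mul, ap_mul, ap_mul, map_inv, ap_inv_ap]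
  rw [S.tau_eq hv s hx hb, S.tau_eq (hv.ap (S.imgL hm)) s (hx.ap hg) (by rw [e, e1b]; exact hb), e,
    ← e1, ← mul_smul, ← mul_smul, ← S.lowR_conj hm hv]
  congr 1
  group

theorem zk_mem_equi (t : F) : zk π A k t ∈ S.equi := by
  have hA := (S.am.zk_spec k t).1
  have hg : π (zk π A k t) ∈ lowFix (k : ℕ) :=
    S.am.map_lvl_le k (Subgroup.mem_map_of_mem π (le_lvlA le_rfl hA))
  refine ⟨hg, fun x hx hne => ?_⟩
  by_cases hb : om (evec k) x ≠ 0
  · have e : om (evec k) (ap (π (zk π A k t)) x) = om (evec k) x := by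
      rw [(S.am.zk_spec k t).2, ap_trans, om_add_right, om_smul_right, om_evec_evec, mul_zero, add_zero]
    rw [S.tau_big hx hb, S.tau_big (hx.ap hg) (by rwa [e])]
    exact S.ev_A hA hx hb (by rwa [e])
  push Not at hb
  have hfix : ap (π (zk π A k t)) x = x := by
    rw [(S.am.zk_spec k t).2, ap_trans, hb, mul_zero, zero_smul, add_zero]
  rw [hfix]
  suffices ∃ u s g, Supp (k' : ℕ) u ∧ om (evec k) (ap (π (S.lowR u s)) x) ≠ 0 ∧
      S.lowR u s * zk π A k t = g * S.lowR u s ∧ S.Ev g (ap (π (S.lowR u s)) x) by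
    obtain ⟨u, s, g, hu, hy, hcomm, hev⟩ := this
    have hgy : ap (π g) (ap (π (S.lowR u s)) x) = ap (π (S.lowR u s)) x := by
      rw [← ap_mul, ← map_mul, ← hcomm, map_mul, ap_mul, hfix]
    rw [Ev, hgy] at hev
    rw [S.tau_eq hu s hx hy, ← mul_smul]
    have e : zk π A k t * (S.lowR u s)⁻¹ = (S.lowR u s)⁻¹ * g := by
      calc zk π A k t * (S.lowR u s)⁻¹ = (S.lowR u s)⁻¹ * (S.lowR u s * zk π A k t) * (S.lowR u s)⁻¹ := by group
        _ = _ := by rw [hcomm]; group
    rw [e, mul_smul, hev]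
  by_cases ha : om x (fvec k) ≠ 0
  · refine ⟨0, 1, S.lowR 0 1 * zk π A k t * (S.lowR 0 1)⁻¹, Supp.zero _, ?_, by group, ?_⟩
    · rw [S.lowR_zero_left, S.om_e_vv, hb, one_mul, zero_sub]; exact neg_ne_zero.2 ha
    have hy : om (evec k) (ap (π (S.lowR 0 1)) x) ≠ 0 := by
      rw [S.lowR_zero_left, S.om_e_vv, hb, one_mul, zero_sub]; exact neg_ne_zero.2 ha
    refine S.ev_A ?_ (S.supp_ap_lvl (S.lowR_mem_lvl _ _) hx) hy ?_
    · rw [S.lowR_zero_left]
      exact mul_mem (mul_mem (S.am.vv_spec k 1).1 hA) (inv_mem (S.am.vv_spec k 1).1)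
    · rw [map_mul, map_mul, ap_mul, ap_mul, map_inv, ap_inv_ap, hfix]; exact hy
  push Not at ha
  obtain ⟨a, b, v, hv, rfl⟩ := S.exists_coords hx
  rw [(S.coords_mk hv a b).1] at hb
  rw [(S.coords_mk hv a b).2] at ha
  subst ha hb
  simp only [zero_smul, zero_add, add_zero] at hne hx hfix ⊢
  obtain ⟨u, hu, huv⟩ := exists_pairing hv hne 1
  have hu0 : u ≠ 0 := fun h => by rw [h, om_zero_left] at huv; exact zero_ne_one huv
  obtain ⟨m, hm, rfl⟩ := S.exists_mov hu hu0
  set e' : Vec n F := evec k' with he'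
  have base : S.lowR e' 0 * zk π A k t = (S.q2 ((-t) • e') t * zk π A k' t) * S.lowR e' 0 := by
    have ha := fun {x : U} (hx : x ∈ A k) => Subgroup.mem_sup_right (S := B k) hx
    have hR : S.lowR e' 0 ∈ B k ⊔ A k := by
      rw [lowR, q2, he', S.qv_e']
      exact mul_mem (mul_mem (ha (S.am.wU_spec k 1).1) (mul_mem (Subgroup.mem_sup_left (S.b0_spec 1).1)
        (ha (S.am.zk_spec k 0).1))) (inv_mem (ha (S.am.wU_spec k 1).1))
    have hQ : S.q2 ((-t) • e') t ∈ B k ⊔ A k := by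
      rw [q2, he', S.qv_smul]
      exact mul_mem (Subgroup.mem_sup_left (S.b0_spec _).1) (ha (S.am.zk_spec k t).1)
    refine S.freeP.eq (mul_mem hR (ha hA)) (mul_mem (mul_mem hQ (Subgroup.mem_sup_left (S.zk'_mem_B t))) hR) ?_
    have hee : Supp (k' : ℕ) e' := S.supp_e'
    have hte : Supp (k' : ℕ) ((-t) • e') := hee.smul _
    simp only [map_mul]
    rw [S.pi_lowR hee, S.pi_q2 hte, (S.am.zk_spec k t).2, (S.am.zk_spec k' t).2]
    refine eq_mul_of_mul_inv_eq ?_
    rw [eich_conj _ (om_zero_right _), ap_zero, ap_eich (S.om_e hee).2.1, om_fvec_evec, (S.om_e hee).2.2.1]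
    refine ext_ap fun x => ?_
    simp only [ap_mul, ap_trans, ap_eich (S.om_e hte).1, om_add_right, om_add_left, om_smul_left, om_smul_right,
      (S.om_e hee).1, (S.om_e hee).2.2.1, ← he', om_evec_evec, om_self, zero_smul, add_zero, mul_zero, zero_add,
      mul_one, one_mul]
    match_scalars <;> ring
  refine ⟨ap (π m) e', 0, m * (S.q2 ((-t) • e') t * zk π A k' t) * m⁻¹, hu, ?_, ?_, ?_⟩
  · rw [S.pi_lowR hu, ap_eich (S.om_e hu).2.1, om_add_right, om_add_right, om_add_right, om_smul_right,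
      om_smul_right, om_smul_right, (S.om_e hv).1, (S.om_e hu).1, om_evec_fvec, huv]
    simp
  · rw [← S.lowR_conj hm S.supp_e', ← he']
    calc m * S.lowR e' 0 * m⁻¹ * zk π A k t = m * S.lowR e' 0 * (m⁻¹ * zk π A k t) := by group
      _ = m * (S.lowR e' 0 * zk π A k t) * m⁻¹ := by rw [← S.zk_comm_L t (inv_mem hm)]; group
      _ = _ := by rw [base]; group
  · rw [show m * (S.q2 ((-t) • e') t * zk π A k' t) * m⁻¹ =
        S.q2 (ap (π m) ((-t) • e')) t * (m * zk π A k' t * m⁻¹) by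
      rw [← S.q2_conj hm (S.supp_e'.smul _), ← he']; group]
    have hm' : m * zk π A k' t * m⁻¹ ∈ L :=
      mul_mem (mul_mem hm (le_lvlA le_rfl (S.am.zk_spec k' t).1)) (inv_mem hm)
    have hys := S.supp_ap_lvl (S.lowR_mem_lvl (ap (π m) e') 0) hx
    obtain ⟨e1, e1b, -⟩ := S.ev_L hm' hys
    refine S.ev_mul e1 (S.ev_q2 ((S.supp_e'.smul _).ap (S.imgL hm)) t (S.supp_ap_lvl (S.L_le hm') hys) ?_).1
    rw [e1b, S.pi_lowR hu, ap_eich (S.om_e hu).2.1, om_add_right, om_add_right, om_add_right, om_smul_right,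
      om_smul_right, om_smul_right, (S.om_e hv).1, (S.om_e hu).1, om_evec_fvec, huv]
    simp

theorem A_fix {x : U} (hx : x ∈ A k) (he : ap (π x) (evec k) = evec k) : x ∈ S.radK :=
  S.P_stab (Subgroup.mem_sup_right hx) he

theorem A_mem_equi {g : U} (hg : g ∈ A k) : g ∈ S.equi := by
  have hv : ∀ t, vv π A k t ∈ S.equi := fun t => S.lowR_zero_left t ▸ S.lowR_mem_equi (Supp.zero _) t
  have main : ∀ g ∈ A k, ap (π g) (evec k) (Sum.inr k) ≠ 0 → g ∈ S.equi := by
    intro g hg hc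
    set y := ap (π g) (evec k) with hy
    set c := y (Sum.inr k) with hcd
    set p := (y (Sum.inl k) - 1) / c with hp
    have hye : y = c • fvec k + y (Sum.inl k) • evec k := by
      refine vec_ext (fun l => ?_) fun l => ?_
      all_goals by_cases hl : l = k
      · rw [hl, om_evec]; simp [om_add_right, om_smul_right, om_evec_fvec, om_evec_evec, hcd]
      · conv_lhs => rw [hy, ← (S.am.imgA hg l hl).1, om_ap]
        simp [om_add_right, om_smul_right, om_evec_fvec_ne hl, om_evec_evec]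
      · rw [hl, om_fvec]; simp [om_add_right, om_smul_right, om_fvec_evec, om_fvec_fvec]
      · conv_lhs => rw [hy, ← (S.am.imgA hg l hl).2, om_ap]
        simp [om_add_right, om_smul_right, om_fvec_evec_ne hl, om_fvec_fvec]
    set r := zk π A k p * vv π A k (-c) with hr
    have hre : ap (π r) (evec k) = y := by
      rw [hye, hr, map_mul, ap_mul, (S.am.zk_spec k p).2, (S.am.vv_spec k _).2, ap_trans, ap_trans,
        om_fvec_evec, om_add_right, om_smul_right, om_evec_evec, om_evec_fvec, hp]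
      match_scalars <;> field_simp <;> ring
    have hrA : r ∈ A k := mul_mem (S.am.zk_spec k p).1 (S.am.vv_spec k _).1
    obtain ⟨u, t, m, hu, hm, he⟩ := S.A_fix (mul_mem (inv_mem hrA) hg) (by
      rw [map_mul, ap_mul, ← hy, ← hre, map_inv, ap_inv_ap])
    have hrest : r⁻¹ * g ∈ S.equi := by
      have h1 : S.q2 u t * m ∈ A k := he ▸ mul_mem (inv_mem hrA) hg
      have hz : u = 0 := by
        have h2 := (S.am.imgA h1)
        refine vec_ext (fun l => ?_) fun l => ?_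
        all_goals rw [om_zero_right]
        all_goals by_cases hl : l = k
        · rw [hl]; exact (S.om_e hu).1
        · have h3 := congrArg (om (evec l)) (show ap (π (S.q2 u t * m)) (fvec k) = fvec k + u + t • evec k by
            rw [map_mul, ap_mul, (S.L_fix hm).2, S.pi_q2 hu, ap_eich (S.om_e hu).1, om_evec_fvec,
              (S.om_e hu).2.2.2]
            simp)
          conv_lhs at h3 => rw [← (h2 l hl).1, om_ap]
          simpa [om_add_right, om_smul_right, om_evec_evec, om_evec_fvec_ne hl] using h3.symm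
        · rw [hl]; exact (S.om_e hu).2.1
        · have h3 := congrArg (om (fvec l)) (show ap (π (S.q2 u t * m)) (fvec k) = fvec k + u + t • evec k by
            rw [map_mul, ap_mul, (S.L_fix hm).2, S.pi_q2 hu, ap_eich (S.om_e hu).1, om_evec_fvec,
              (S.om_e hu).2.2.2]
            simp)
          conv_lhs at h3 => rw [← (h2 l hl).2, om_ap]
          simpa [om_add_right, om_smul_right, om_fvec_fvec, om_fvec_evec_ne hl] using h3.symm
      rw [he, hz, S.q2_zero_left]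
      exact mul_mem (S.zk_mem_equi t) (S.L_mem_equi hm)
    rw [show g = r * (r⁻¹ * g) by group]
    exact mul_mem (mul_mem (S.zk_mem_equi p) (hv _)) hrest
  by_cases hc : ap (π g) (evec k) (Sum.inr k) ≠ 0
  · exact main g hg hc
  push Not at hc
  have ha : ap (π g) (evec k) (Sum.inl k) ≠ 0 := fun ha => by
    refine ap_ne_zero (π g) (x := evec k) (fun h => by simpa [evec] using congrFun h (Sum.inl k)) ?_
    refine vec_ext (fun l => ?_) fun l => ?_
    all_goals rw [om_zero_right]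
    all_goals by_cases hl : l = k
    · rw [hl, om_evec]; exact hc
    · rw [← (S.am.imgA hg l hl).1, om_ap, om_evec_evec]
    · rw [hl, om_fvec, ha, neg_zero]
    · rw [← (S.am.imgA hg l hl).2, om_ap, om_fvec_evec_ne hl]
  have h := main (vv π A k 1 * g) (mul_mem (S.am.vv_spec k 1).1 hg) (by
    refine fun h0 => ?_
    refine absurd ((om_evec k _).trans h0) ?_
    rw [map_mul, ap_mul, S.om_e_vv, om_evec, hc, one_mul, zero_sub, om_skew, om_fvec, neg_neg]
    exact neg_ne_zero.2 ha)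
  rw [show g = (vv π A k 1)⁻¹ * (vv π A k 1 * g) by group]
  exact mul_mem (inv_mem (hv 1)) h

theorem qv_mem_equi {u : Vec n F} (hu : Supp (k' : ℕ) u) : qv π A B k k' u ∈ S.equi := by
  have e : qv π A B k k' u = (wU π A k 1)⁻¹ * S.lowR u 0 * wU π A k 1 := by
    rw [lowR, S.qv_eq_q2]; group
  rw [e]
  have hw := S.A_mem_equi (S.am.wU_spec k 1).1
  exact mul_mem (mul_mem (inv_mem hw) (S.lowR_mem_equi hu 0)) hw

theorem B_mem_equi {x : U} (hx : x ∈ B k) : x ∈ S.equi := by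
  obtain ⟨c, t, t', hd⟩ := S.dec_stab (S.imgP (Subgroup.mem_sup_left hx)).1 ((S.am.imgB S.lt_n hx).1 k')
    ((S.am.imgB S.lt_n hx).1 k)
  have hc : Supp (k' : ℕ) (c • evec k' : Vec n F) := S.supp_e'.smul c
  have h := S.freeP.eq (Subgroup.mem_sup_left hx) (y := b0 π B k k' c * zk π A k t * zk π A k' t')
    (mul_mem (mul_mem (Subgroup.mem_sup_left (S.b0_spec c).1) (Subgroup.mem_sup_right (S.am.zk_spec k t).1))
      (Subgroup.mem_sup_left (S.zk'_mem_B t'))) (by
        rw [hd, map_mul, map_mul, (S.b0_spec c).2, (S.am.zk_spec k t).2, (S.am.zk_spec k' t').2,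
          eich_mul (S.om_e hc).1 (om_zero_right _)]
        simp)
  rw [h, ← S.qv_smul]
  exact mul_mem (mul_mem (S.qv_mem_equi hc) (S.zk_mem_equi t))
    (S.L_mem_equi (le_lvlA le_rfl (S.am.zk_spec k' t').1))

theorem lvl_le_equi : lvl A B (k : ℕ) ≤ S.equi := by
  refine lvl_le (fun j hj x hx => ?_) fun i hi hi' x hx => ?_
  · by_cases h : j = k
    · exact S.A_mem_equi (h ▸ hx)
    · exact S.L_mem_equi (le_lvlA (by have := S.succ; have := Fin.val_ne_of_ne h; omega) hx)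
  · by_cases h : i = k
    · exact S.B_mem_equi (h ▸ hx)
    · exact S.L_mem_equi (le_lvlB (by have := S.succ; have := Fin.val_ne_of_ne h; omega) hi' hx)

theorem good_step : Good π A B (k : ℕ) := by
  refine ⟨fun u hu he => S.radK_free u ?_ he, le_antisymm (S.am.map_lvl_le k) fun g hg => ?_⟩
  · have hne : (evec k : Vec n F) ≠ 0 := fun h => by simpa [evec] using congrFun h (Sum.inl k)
    have hes : Supp (k : ℕ) (evec k : Vec n F) := supp_evec le_rfl
    have h := (S.lvl_le_equi hu).2 _ hes hne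
    rw [he, ap_one] at h
    have hy : ap (π (S.lowR 0 (-1))) (evec k) = (1 : F) • fvec k + (0 : Vec n F) + (1 : F) • evec k := by
      rw [S.pi_lowR (Supp.zero _), ap_trans, om_fvec_evec]
      module
    have hb : om (evec k) (ap (π (S.lowR 0 (-1))) (evec k)) ≠ 0 := by
      rw [hy, (S.coords_mk (Supp.zero _) _ _).1]; exact one_ne_zero
    have ht : S.tau (evec k) = ((1 : U) : U ⧸ S.radK) := by
      rw [S.tau_eq (Supp.zero _) _ hes hb, hy, big, MulAction.Quotient.smul_coe, smul_eq_mul, QuotientGroup.eq,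
        mul_one]
      refine inv_mem (S.A_fix ?_ ?_)
      · rw [S.lowR_zero_left, S.rep_mk (Supp.zero _), smul_zero, S.q2_zero_left]
        exact mul_mem (inv_mem (S.am.vv_spec k _).1) (mul_mem (S.am.zk_spec k _).1 (S.am.wU_spec k _).1)
      · rw [map_mul, ap_mul, S.pi_rep (Supp.zero _) _ one_ne_zero, ← hy, map_inv, ap_inv_ap]
    rw [ht, MulAction.Quotient.smul_coe, smul_eq_mul, mul_one, QuotientGroup.eq, mul_one] at h
    exact inv_mem_iff.1 h
  · set x := ap g (evec k) with hx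
    have hne : x ≠ 0 := ap_ne_zero g fun h => by simpa [evec] using congrFun h (Sum.inl k)
    have hxs : Supp (k : ℕ) x := (supp_evec le_rfl).ap hg
    obtain ⟨u, t, hu, hb⟩ := S.exists_big hxs hne
    obtain ⟨a, b, v, hv, hy⟩ := S.exists_coords (S.supp_ap_lvl (S.lowR_mem_lvl u t) hxs)
    rw [hy, (S.coords_mk hv a b).1] at hb
    set r := (S.lowR u t)⁻¹ * S.rep (b • fvec k + v + a • evec k) with hr
    have hrl : r ∈ lvl A B (k : ℕ) := mul_mem (inv_mem (S.lowR_mem_lvl u t)) (S.rep_mem_lvl _)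
    have hre : ap (π r) (evec k) = x := by
      rw [hr, map_mul, ap_mul, S.pi_rep hv a hb, ← hy, map_inv, ap_inv_ap]
    have hg' : (π r)⁻¹ * g ∈ lowFix (k : ℕ) :=
      mul_mem (inv_mem (S.am.map_lvl_le k (Subgroup.mem_map_of_mem π hrl))) hg
    obtain ⟨w, s, hw, -, -, hh⟩ := exists_stab hg' (by rw [ap_mul, ← hx, ← hre, ap_inv_ap])
    have hw' : Supp (k' : ℕ) w := S.supp_succ.2 hw
    rw [← S.succ] at hh
    obtain ⟨m, hm, hme⟩ := S.map_L hh
    refine ⟨r * S.q2 w s * m, mul_mem (mul_mem hrl (S.q2_mem_lvl w s)) (S.L_le hm), ?_⟩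
    rw [map_mul, map_mul, S.pi_q2 hw', hme]
    group

end Step

theorem lvl_top (k : ℕ) (hk : n ≤ k) : lvl A B k = ⊥ :=
  le_bot_iff.1 (lvl_le (fun j hj => absurd (hk.trans hj) (not_le.2 j.isLt))
    fun i hi _ => absurd (hk.trans hi) (not_le.2 i.isLt))

theorem good_top (π : U →* Sp n F) (k : ℕ) (hk : n ≤ k) : Good π A B k := by
  refine ⟨fun u hu _ => ?_, ?_⟩
  · rw [lvl_top k hk, Subgroup.mem_bot] at hu
    exact hu
  · rw [lvl_top k hk, Subgroup.map_bot, eq_comm, eq_bot_iff]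
    intro g hg
    have h := fun l : Fin n => hg l (lt_of_lt_of_le l.isLt hk)
    exact ext_basis (fun l => by rw [(h l).1, ap_one]) fun l => by rw [(h l).2, ap_one]

theorem Amalgam.good_last (am : Amalgam π A B) (hn : 2 ≤ n) (k : Fin n) (hk : (k : ℕ) + 1 = n) :
    Good π A B (k : ℕ) := by
  have he : lvl A B (k : ℕ) = A k := by
    refine le_antisymm (lvl_le (fun j hj => ?_) fun i hi hi' => absurd hi' (by omega)) (le_lvlA le_rfl)
    rw [show j = k from Fin.ext (by have := j.isLt; omega)]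
  rw [Good, he]
  refine ⟨am.freeA (l := ⟨0, by omega⟩) fun h => by rw [h] at hk; simp at hk; omega, ?_⟩
  rw [am.mapA k]
  ext g
  refine forall_congr' fun l => ?_
  show (l ≠ k → _) ↔ ((l : ℕ) < k → _)
  rw [show l ≠ k ↔ (l : ℕ) < k from ⟨fun h => by have := l.isLt; have := Fin.val_ne_of_ne h; omega,
    fun h e => by rw [e] at h; omega⟩]

/-- The amalgam maps bijectively onto the symplectic group. -/
theorem Amalgam.good_zero (am : Amalgam π A B) (hn : 2 ≤ n) : Good π A B 0 := by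
  suffices ∀ d k, k + d = n → Good π A B k ∧ Good π A B (k + 1) from (this n 0 (zero_add n)).1
  intro d
  induction d with
  | zero => exact fun k hk => ⟨good_top π k (by omega), good_top π (k + 1) (by omega)⟩
  | succ d ih =>
    intro k hk
    obtain ⟨h1, h2⟩ := ih (k + 1) (by omega)
    refine ⟨?_, h1⟩
    by_cases hlast : k + 1 = n
    · exact am.good_last hn ⟨k, by omega⟩ hlast
    · exact Step.good_step (k := ⟨k, by omega⟩) (k' := ⟨k + 1, by omega⟩) ⟨am, rfl, h1, h2⟩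

end Cfsg.Agent.SpAmalgam
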