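import Mathlib

/-!
The symplectic group in the standard hyperbolic basis: Eichler transformations, the subgroups
fixing the first `k` hyperbolic pairs, transitivity and the stabiliser of a basis vector.
-/

set_option autoImplicit false
set_option linter.unusedSectionVars false

open Matrix

namespace Cfsg.Agent.SpAmalgam

universe u

variable {F : Type u} [Field F] {n : ℕ}

/-- The vectors. -/
abbrev Vec (n : ℕ) (F : Type u) := Fin n ⊕ Fin n → F

/-- The symplectic group. -/
abbrev Sp (n : ℕ) (F : Type u) [Field F] := ↥(symplecticGroup (Fin n) F)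

/-- The action on column vectors. -/
def ap (g : Sp n F) (x : Vec n F) : Vec n F := (g : Matrix (Fin n ⊕ Fin n) (Fin n ⊕ Fin n) F) *ᵥ x

/-- The alternating form. -/
def om (x y : Vec n F) : F := ∑ i, (x (Sum.inl i) * y (Sum.inr i) - x (Sum.inr i) * y (Sum.inl i))

theorem ap_mul (g h : Sp n F) (x : Vec n F) : ap (g * h) x = ap g (ap h x) :=
  (mulVec_mulVec x _ _).symm

@[simp] theorem ap_one (x : Vec n F) : ap 1 x = x := one_mulVec x

theorem ap_add (g : Sp n F) (x y : Vec n F) : ap g (x + y) = ap g x + ap g y := mulVec_add _ _ _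

theorem ap_smul (g : Sp n F) (c : F) (x : Vec n F) : ap g (c • x) = c • ap g x := mulVec_smul _ _ _

theorem ap_zero (g : Sp n F) : ap g 0 = 0 := mulVec_zero _

theorem ap_sub (g : Sp n F) (x y : Vec n F) : ap g (x - y) = ap g x - ap g y := mulVec_sub _ _ _

@[simp] theorem ap_inv_ap (g : Sp n F) (x : Vec n F) : ap g⁻¹ (ap g x) = x := by
  rw [← ap_mul, inv_mul_cancel, ap_one]

@[simp] theorem ap_ap_inv (g : Sp n F) (x : Vec n F) : ap g (ap g⁻¹ x) = x := by
  rw [← ap_mul, mul_inv_cancel, ap_one]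

theorem ap_ne_zero (g : Sp n F) {x : Vec n F} (hx : x ≠ 0) : ap g x ≠ 0 := fun h => hx (by
  rw [← ap_inv_ap g x, h, ap_zero])

theorem ext_ap {g h : Sp n F} (H : ∀ x, ap g x = ap h x) : g = h :=
  Subtype.ext (Matrix.ext_of_mulVec_single fun i => H (Pi.single i 1))

theorem om_eq (x y : Vec n F) : om x y = -(x ⬝ᵥ (Matrix.J (Fin n) F *ᵥ y)) := by
  have h : Matrix.J (Fin n) F *ᵥ y = Sum.elim (-(y ∘ Sum.inr)) (y ∘ Sum.inl) := by
    rw [Matrix.J, fromBlocks_mulVec]
    congr 1 <;> simp [Matrix.neg_mulVec]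
  rw [h]
  simp only [om, dotProduct, Fintype.sum_sum_type, Sum.elim_inl, Sum.elim_inr, Pi.neg_apply, Function.comp,
    mul_neg, Finset.sum_neg_distrib, Finset.sum_sub_distrib]
  ring

theorem om_add_left (x y z : Vec n F) : om (x + y) z = om x z + om y z := by
  simp only [om, Pi.add_apply, ← Finset.sum_add_distrib]
  exact Finset.sum_congr rfl fun i _ => by ring

theorem om_smul_left (c : F) (x y : Vec n F) : om (c • x) y = c * om x y := by
  simp only [om, Pi.smul_apply, smul_eq_mul, Finset.mul_sum]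
  exact Finset.sum_congr rfl fun i _ => by ring

theorem om_self (x : Vec n F) : om x x = 0 := Finset.sum_eq_zero fun i _ => by ring

theorem om_skew (x y : Vec n F) : om y x = -om x y := by
  simp only [om, ← Finset.sum_neg_distrib]
  exact Finset.sum_congr rfl fun i _ => by ring

theorem om_add_right (x y z : Vec n F) : om x (y + z) = om x y + om x z := by
  rw [om_skew (y + z) x, om_add_left, om_skew x y, om_skew x z]; ring

theorem om_smul_right (c : F) (x y : Vec n F) : om x (c • y) = c * om x y := by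
  rw [om_skew (c • y) x, om_smul_left, om_skew x y]; ring

@[simp] theorem om_zero_left (x : Vec n F) : om 0 x = 0 := by simp [om]

@[simp] theorem om_zero_right (x : Vec n F) : om x 0 = 0 := by simp [om]

theorem om_neg_left (x y : Vec n F) : om (-x) y = -om x y := by
  rw [← neg_one_smul F x, om_smul_left]; ring

theorem om_neg_right (x y : Vec n F) : om x (-y) = -om x y := by
  rw [← neg_one_smul F y, om_smul_right]; ring

theorem om_sub_left (x y z : Vec n F) : om (x - y) z = om x z - om y z := by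
  rw [sub_eq_add_neg, om_add_left, om_neg_left]; ring

theorem om_sub_right (x y z : Vec n F) : om x (y - z) = om x y - om x z := by
  rw [sub_eq_add_neg, om_add_right, om_neg_right]; ring

theorem om_ap (g : Sp n F) (x y : Vec n F) : om (ap g x) (ap g y) = om x y := by
  rw [om_eq, om_eq, ap, ap, mulVec_mulVec, dotProduct_mulVec, dotProduct_mulVec]
  congr 2
  rw [← mulVec_transpose, ← mulVec_transpose, mulVec_mulVec, transpose_mul]
  congr 1
  have h := SymplecticGroup.mem_iff'.1 g.2
  calc (g.1)ᵀ * (Matrix.J (Fin n) F)ᵀ * g.1 = -((g.1)ᵀ * Matrix.J (Fin n) F * g.1) := by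
        rw [J_transpose, Matrix.mul_neg, Matrix.neg_mul]
    _ = _ := by rw [h, J_transpose]

/-- The element given by a linear map preserving the form. -/
def mkSp (f : Vec n F →ₗ[F] Vec n F) (hf : ∀ x y, om (f x) (f y) = om x y) : Sp n F :=
  ⟨LinearMap.toMatrix' f, SymplecticGroup.mem_iff'.2 (Matrix.ext fun i j => by
    have h := hf (Pi.single i 1) (Pi.single j 1)
    rw [om_eq, om_eq, neg_inj] at h
    have e : ∀ (M A : Matrix (Fin n ⊕ Fin n) (Fin n ⊕ Fin n) F),
        (Mᵀ * A * M) i j = (M *ᵥ Pi.single i 1) ⬝ᵥ (A *ᵥ (M *ᵥ Pi.single j 1)) := fun M A => by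
      rw [mulVec_single_one, mulVec_single_one]
      simp only [Matrix.mul_apply, dotProduct, mulVec, Matrix.col_apply, Matrix.transpose_apply,
        Finset.mul_sum, Finset.sum_mul]
      rw [Finset.sum_comm]
      exact Finset.sum_congr rfl fun _ _ => Finset.sum_congr rfl fun _ _ => by ring
    rw [e, LinearMap.toMatrix'_mulVec, LinearMap.toMatrix'_mulVec, h, mulVec_single_one, single_dotProduct, one_mul]
    rfl)⟩

theorem ap_mkSp (f : Vec n F →ₗ[F] Vec n F) (hf : ∀ x y, om (f x) (f y) = om x y) (x : Vec n F) :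
    ap (mkSp f hf) x = f x := LinearMap.toMatrix'_mulVec _ x

/-- The underlying map of an Eichler transformation. -/
def eichLin (a u : Vec n F) (t : F) : Vec n F →ₗ[F] Vec n F where
  toFun x := x + om a x • u + om u x • a + (t * om a x) • a
  map_add' x y := by simp only [om_add_right, mul_add, add_smul]; abel
  map_smul' c x := by
    simp only [om_smul_right, RingHom.id_apply, smul_add, smul_smul]
    congr 2 <;> ring_nf

open Classical in
/-- The Eichler transformation `x ↦ x + ω(a,x) u + ω(u,x) a + t ω(a,x) a`. -/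
noncomputable def eich (a u : Vec n F) (t : F) : Sp n F :=
  if h : om a u = 0 then mkSp (eichLin a u t) fun x y => by
    simp only [eichLin, LinearMap.coe_mk, AddHom.coe_mk, om_add_left, om_add_right, om_smul_left,
      om_smul_right, om_self, h, om_skew a u, om_skew u x, om_skew a x]
    ring
  else 1

theorem ap_eich {a u : Vec n F} (h : om a u = 0) (t : F) (x : Vec n F) :
    ap (eich a u t) x = x + om a x • u + om u x • a + (t * om a x) • a := by
  rw [eich, dif_pos h, ap_mkSp]; rfl

theorem ap_trans (a : Vec n F) (t : F) (x : Vec n F) : ap (eich a 0 t) x = x + (t * om a x) • a := by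
  rw [ap_eich (om_zero_right a)]; simp

theorem eich_mul {a u u' : Vec n F} (h : om a u = 0) (h' : om a u' = 0) (t t' : F) :
    eich a u t * eich a u' t' = eich a (u + u') (t + t' + om u u') := by
  refine ext_ap fun x => ?_
  have h2 : om a (u + u') = 0 := by rw [om_add_right, h, h', add_zero]
  have hua : om u a = 0 := by rw [om_skew a u, h, neg_zero]
  simp only [ap_mul, ap_eich h, ap_eich h', ap_eich h2, om_add_right, om_smul_right, om_self, h', hua,
    om_add_left, mul_zero, add_zero, smul_add]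
  module

theorem eich_zero (a : Vec n F) : eich a 0 0 = 1 := ext_ap fun x => by simp [ap_trans]

theorem eich_inv {a u : Vec n F} (h : om a u = 0) (t : F) : (eich a u t)⁻¹ = eich a (-u) (-t) := by
  refine inv_eq_of_mul_eq_one_right ?_
  rw [eich_mul h (by rw [om_neg_right, h, neg_zero]), add_neg_cancel, add_neg_cancel, om_neg_right, om_self,
    neg_zero, add_zero, eich_zero]

theorem eich_conj (g : Sp n F) {a u : Vec n F} (h : om a u = 0) (t : F) :
    g * eich a u t * g⁻¹ = eich (ap g a) (ap g u) t := by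
  refine ext_ap fun x => ?_
  obtain ⟨y, rfl⟩ : ∃ y, x = ap g y := ⟨ap g⁻¹ x, (ap_ap_inv g x).symm⟩
  rw [ap_mul, ap_mul, ap_inv_ap, ap_eich h, ap_eich (by rw [om_ap, h]), om_ap, om_ap]
  simp only [ap_add, ap_smul]

/-- The basis vector `e_k`. -/
def evec (k : Fin n) : Vec n F := Pi.single (Sum.inl k) 1

/-- The basis vector `f_k`. -/
def fvec (k : Fin n) : Vec n F := Pi.single (Sum.inr k) 1

theorem om_evec (k : Fin n) (x : Vec n F) : om (evec k) x = x (Sum.inr k) := by
  simp [om, evec, Pi.single_apply, ite_mul]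

theorem om_fvec (k : Fin n) (x : Vec n F) : om (fvec k) x = -x (Sum.inl k) := by
  simp [om, fvec, Pi.single_apply, ite_mul]

theorem vec_ext {x y : Vec n F} (h1 : ∀ k, om (evec k) x = om (evec k) y)
    (h2 : ∀ k, om (fvec k) x = om (fvec k) y) : x = y := by
  funext i
  rcases i with i | i
  · simpa [om_fvec] using h2 i
  · simpa [om_evec] using h1 i

theorem ext_basis {g h : Sp n F} (h1 : ∀ k, ap g (evec k) = ap h (evec k))
    (h2 : ∀ k, ap g (fvec k) = ap h (fvec k)) : g = h :=
  Subtype.ext (Matrix.ext_of_mulVec_single fun i => by rcases i with i | i; exacts [h1 i, h2 i])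

/-- The elements fixing the hyperbolic pairs with index satisfying `p`. -/
def fixPairs (p : Fin n → Prop) : Subgroup (Sp n F) where
  carrier := {g | ∀ l, p l → ap g (evec l) = evec l ∧ ap g (fvec l) = fvec l}
  one_mem' l _ := ⟨ap_one _, ap_one _⟩
  mul_mem' {g h} hg hh l hl := ⟨by rw [ap_mul, (hh l hl).1, (hg l hl).1], by rw [ap_mul, (hh l hl).2, (hg l hl).2]⟩
  inv_mem' {g} hg l hl := ⟨by conv_lhs => rw [← (hg l hl).1, ap_inv_ap],
    by conv_lhs => rw [← (hg l hl).2, ap_inv_ap]⟩

theorem mem_fixPairs {p : Fin n → Prop} {g : Sp n F} :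
    g ∈ fixPairs p ↔ ∀ l, p l → ap g (evec l) = evec l ∧ ap g (fvec l) = fvec l := Iff.rfl

/-- The elements fixing every `e_l`, and every `f_l` apart from `i` and `i + 1`. -/
def mGrp (i : Fin n) : Subgroup (Sp n F) where
  carrier := {g | (∀ l, ap g (evec l) = evec l) ∧
    ∀ l : Fin n, (l : ℕ) ≠ i → (l : ℕ) ≠ (i : ℕ) + 1 → ap g (fvec l) = fvec l}
  one_mem' := ⟨fun _ => ap_one _, fun _ _ _ => ap_one _⟩
  mul_mem' {g h} hg hh := ⟨fun l => by rw [ap_mul, hh.1 l, hg.1 l],
    fun l a b => by rw [ap_mul, hh.2 l a b, hg.2 l a b]⟩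
  inv_mem' {g} hg := ⟨fun l => by conv_lhs => rw [← hg.1 l, ap_inv_ap],
    fun l a b => by conv_lhs => rw [← hg.2 l a b, ap_inv_ap]⟩

/-- The vectors with no coordinates among the first `k` hyperbolic pairs. -/
def Supp (k : ℕ) (x : Vec n F) : Prop := ∀ l : Fin n, (l : ℕ) < k → x (Sum.inl l) = 0 ∧ x (Sum.inr l) = 0

/-- The elements fixing the first `k` hyperbolic pairs. -/
def lowFix (k : ℕ) : Subgroup (Sp n F) := fixPairs fun l => (l : ℕ) < k

theorem Supp.om_left {k : ℕ} {x : Vec n F} (hx : Supp k x) {l : Fin n} (hl : (l : ℕ) < k) :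
    om (evec l) x = 0 ∧ om (fvec l) x = 0 := by simp [om_evec, om_fvec, hx l hl]

theorem supp_iff {k : ℕ} {x : Vec n F} :
    Supp k x ↔ ∀ l : Fin n, (l : ℕ) < k → om (evec l) x = 0 ∧ om (fvec l) x = 0 := by
  simp only [Supp, om_evec, om_fvec, neg_eq_zero]
  exact forall_congr' fun l => imp_congr_right fun _ => and_comm

theorem Supp.mono {k k' : ℕ} (hk : k ≤ k') {x : Vec n F} (hx : Supp k' x) : Supp k x :=
  fun l hl => hx l (lt_of_lt_of_le hl hk)

theorem Supp.zero (k : ℕ) : Supp k (0 : Vec n F) := fun _ _ => ⟨rfl, rfl⟩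

theorem Supp.add {k : ℕ} {x y : Vec n F} (hx : Supp k x) (hy : Supp k y) : Supp k (x + y) :=
  fun l hl => by simp [hx l hl, hy l hl]

theorem Supp.smul {k : ℕ} {x : Vec n F} (hx : Supp k x) (c : F) : Supp k (c • x) :=
  fun l hl => by simp [hx l hl]

theorem Supp.neg {k : ℕ} {x : Vec n F} (hx : Supp k x) : Supp k (-x) :=
  fun l hl => by simp [hx l hl]

theorem Supp.sub {k : ℕ} {x y : Vec n F} (hx : Supp k x) (hy : Supp k y) : Supp k (x - y) :=
  fun l hl => by simp [hx l hl, hy l hl]

theorem supp_evec {k : ℕ} {j : Fin n} (h : k ≤ j) : Supp (F := F) k (evec j) := fun l hl => by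
  have hlj : l ≠ j := fun e => absurd (e ▸ hl) (not_lt.2 h)
  simp [evec, Pi.single_apply, hlj]

theorem supp_fvec {k : ℕ} {j : Fin n} (h : k ≤ j) : Supp (F := F) k (fvec j) := fun l hl => by
  have hlj : l ≠ j := fun e => absurd (e ▸ hl) (not_lt.2 h)
  simp [fvec, Pi.single_apply, hlj]

theorem Supp.ap {k : ℕ} {x : Vec n F} (hx : Supp k x) {g : Sp n F} (hg : g ∈ lowFix k) :
    Supp k (ap g x) := supp_iff.2 fun l hl => by
  obtain ⟨h1, h2⟩ := hg l hl
  constructor
  · rw [← h1, om_ap]; exact (hx.om_left hl).1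
  · rw [← h2, om_ap]; exact (hx.om_left hl).2

theorem eich_mem_lowFix {k : ℕ} {a u : Vec n F} (ha : Supp k a) (hu : Supp k u) (h : om a u = 0) (t : F) :
    eich a u t ∈ lowFix k := by
  intro l hl
  have h1 := ha.om_left hl
  have h2 := hu.om_left hl
  constructor <;> simp [ap_eich h, om_skew _ a, om_skew _ u, h1, h2]

theorem ap_eq_self_of_coord (g : Sp n F) {x : Vec n F}
    (h : ∀ i, x i ≠ 0 → ap g (Pi.single i 1) = Pi.single i 1) : ap g x = x := by
  conv_rhs => rw [pi_eq_sum_univ' x]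
  conv_lhs => rw [pi_eq_sum_univ' x]
  unfold ap at h ⊢
  rw [mulVec_sum]
  refine Finset.sum_congr rfl fun i _ => ?_
  rw [mulVec_smul]
  by_cases hi : x i = 0
  · rw [hi, zero_smul, zero_smul]
  · rw [h i hi]

/-- Elements moving complementary sets of pairs commute. -/
theorem commute_of_fixPairs {p : Fin n → Prop} {g h : Sp n F} (hg : g ∈ fixPairs p)
    (hh : h ∈ fixPairs fun l => ¬ p l) : g * h = h * g := by
  have coord : ∀ {q : Fin n → Prop} {g : Sp n F}, g ∈ fixPairs q → ∀ (y : Vec n F) (m : Fin n), q m →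
      ap g y (Sum.inl m) = y (Sum.inl m) ∧ ap g y (Sum.inr m) = y (Sum.inr m) := by
    intro q g hg y m hm
    have b1 : om (evec m) (ap g y) = om (evec m) y := by conv_lhs => rw [← (hg m hm).1, om_ap]
    have b2 : om (fvec m) (ap g y) = om (fvec m) y := by conv_lhs => rw [← (hg m hm).2, om_ap]
    rw [om_evec, om_evec] at b1
    rw [om_fvec, om_fvec, neg_inj] at b2
    exact ⟨b2, b1⟩
  have main : ∀ {q : Fin n → Prop} {g h : Sp n F}, g ∈ fixPairs q → (h ∈ fixPairs fun l => ¬ q l) →
      ∀ l, q l → ap g (ap h (evec l)) = ap h (evec l) ∧ ap g (ap h (fvec l)) = ap h (fvec l) := by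
    intro q g h hg hh l hl
    constructor <;>
    · refine ap_eq_self_of_coord g fun i hi => ?_
      rcases i with i | i <;> by_cases hqi : q i
      · exact (hg i hqi).1
      · have hne : i ≠ l := fun e => hqi (e ▸ hl)
        exact absurd ((coord hh _ i hqi).1.trans (by simp [evec, fvec, hne])) hi
      · exact (hg i hqi).2
      · have hne : i ≠ l := fun e => hqi (e ▸ hl)
        exact absurd ((coord hh _ i hqi).2.trans (by simp [evec, fvec, hne])) hi
  have hg' : g ∈ fixPairs fun l => ¬¬ p l := fun l hl => hg l (not_not.1 hl)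
  refine ext_basis (fun l => ?_) fun l => ?_
  all_goals rw [ap_mul, ap_mul]
  all_goals by_cases hl : p l
  · rw [(hg l hl).1, (main hg hh l hl).1]
  · rw [(hh l hl).1, (main hh hg' l hl).1]
  · rw [(hg l hl).2, (main hg hh l hl).2]
  · rw [(hh l hl).2, (main hh hg' l hl).2]

/-- Two elements fixing every `e_l` commute. -/
theorem commute_of_fix_evec {g h : Sp n F} (hg : ∀ l, ap g (evec l) = evec l)
    (hh : ∀ l, ap h (evec l) = evec l) : g * h = h * g := by
  have key : ∀ (g : Sp n F), (∀ l, ap g (evec l) = evec l) → ∀ x : Vec n F,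
      (∀ l, x (Sum.inr l) = 0) → ap g x = x := by
    intro g hg x hx
    have hxe : x = ∑ l, x (Sum.inl l) • (evec l : Vec n F) := by
      funext i
      rcases i with i | i <;> simp [evec, Finset.sum_apply, Pi.single_apply, hx]
    rw [hxe]
    unfold ap
    rw [mulVec_sum]
    exact Finset.sum_congr rfl fun l _ => by rw [mulVec_smul]; exact congrArg _ (hg l)
  refine ext_basis (fun l => by rw [ap_mul, ap_mul, hg l, hh l, hg l]) fun l => ?_
  have d : ∀ (g : Sp n F), (∀ l, ap g (evec l) = evec l) →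
      ∀ m, (ap g (fvec l) - fvec l : Vec n F) (Sum.inr m) = 0 := by
    intro g hg m
    refine (om_evec m _).symm.trans ?_
    rw [om_sub_right]
    conv_lhs => arg 1; rw [← hg m, om_ap]
    exact sub_self _
  have e1 := key g hg _ (d h hh)
  have e2 := key h hh _ (d g hg)
  rw [ap_sub, sub_eq_iff_eq_add] at e1 e2
  rw [ap_mul, ap_mul, e1, e2]
  abel

/-- Transitivity. -/
theorem exists_map_evec {k : Fin n} {x : Vec n F} (hx : Supp k x) (hne : x ≠ 0) :
    ∃ g ∈ lowFix (k : ℕ), ap g (evec k) = x := by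
  have one : ∀ y z : Vec n F, Supp k y → Supp k z → om y z ≠ 0 →
      ∃ g ∈ lowFix (k : ℕ), ap g y = z := by
    intro y z hy hz h
    refine ⟨eich (z - y) 0 (-(om y z)⁻¹), eich_mem_lowFix (hz.sub hy) (Supp.zero _) (om_zero_right _) _, ?_⟩
    rw [ap_trans, om_sub_left, om_self, sub_zero, om_skew y z, neg_mul_neg, inv_mul_cancel₀ h, one_smul,
      add_sub_cancel]
  by_cases h : x (Sum.inr k) = 0
  swap
  · exact one _ _ (supp_evec le_rfl) hx (by rwa [om_evec])
  by_cases h2 : x (Sum.inl k) = 0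
  swap
  · have hf : Supp k (fvec k : Vec n F) := supp_fvec le_rfl
    obtain ⟨g1, hg1, e1⟩ := one (evec k) (fvec k) (supp_evec le_rfl) hf (by simp [om_evec, fvec])
    obtain ⟨g2, hg2, e2⟩ := one (fvec k) x hf hx (by rw [om_fvec]; exact neg_ne_zero.2 h2)
    exact ⟨g2 * g1, mul_mem hg2 hg1, by rw [ap_mul, e1, e2]⟩
  obtain ⟨i, hi⟩ := Function.ne_iff.1 hne
  obtain ⟨z, hz, hzx⟩ : ∃ z : Vec n F, Supp k z ∧ om z x ≠ 0 ∧ z (Sum.inr k) = 0 := by
    rcases i with i | i
    · have hik : (k : ℕ) < i := lt_of_le_of_ne (not_lt.1 fun h' => hi (hx i h').1)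
        fun e => hi (by rw [← Fin.ext e]; exact h2)
      refine ⟨fvec i, supp_fvec hik.le, by rw [om_fvec]; exact neg_ne_zero.2 hi, ?_⟩
      simp [fvec, Pi.single_apply, (Fin.ne_of_lt hik)]
    · have hik : (k : ℕ) < i := lt_of_le_of_ne (not_lt.1 fun h' => hi (hx i h').2)
        fun e => hi (by rw [← Fin.ext e]; exact h)
      exact ⟨evec i, supp_evec hik.le, by rw [om_evec]; exact hi, by simp [evec]⟩
  have hy : Supp k (fvec k + z) := (supp_fvec le_rfl).add hz
  obtain ⟨g1, hg1, e1⟩ := one (evec k) (fvec k + z) (supp_evec le_rfl) hy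
    (by rw [om_evec]; simp [fvec, hzx.2])
  obtain ⟨g2, hg2, e2⟩ := one (fvec k + z) x hy hx
    (by rw [om_add_left, om_fvec, h2, neg_zero, zero_add]; exact hzx.1)
  exact ⟨g2 * g1, mul_mem hg2 hg1, by rw [ap_mul, e1, e2]⟩

theorem mem_lowFix_succ {k : Fin n} {g : Sp n F} (hg : g ∈ lowFix (k : ℕ))
    (he : ap g (evec k) = evec k) (hf : ap g (fvec k) = fvec k) : g ∈ lowFix ((k : ℕ) + 1) := by
  intro l hl
  rcases Nat.lt_succ_iff_lt_or_eq.1 hl with h | h
  · exact hg l h
  · rw [Fin.ext h]; exact ⟨he, hf⟩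

/-- The stabiliser of `e_k`. -/
theorem exists_stab {k : Fin n} {g : Sp n F} (hg : g ∈ lowFix (k : ℕ)) (he : ap g (evec k) = evec k) :
    ∃ (u : Vec n F) (t : F), Supp ((k : ℕ) + 1) u ∧ om (evec k) u = 0 ∧
      u = ap g (fvec k) - fvec k - t • evec k ∧ (eich (evec k) u t)⁻¹ * g ∈ lowFix ((k : ℕ) + 1) := by
  set y := ap g (fvec k) with hy
  set t := y (Sum.inl k) with ht
  set u := y - fvec k - t • evec k with hu
  have h1 : om (evec k) y = 1 := by
    rw [hy]; conv_lhs => arg 1; rw [← he]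
    rw [om_ap, om_evec]; simp [fvec]
  have hys : Supp k y := (supp_fvec le_rfl).ap hg
  have hus : Supp ((k : ℕ) + 1) u := by
    intro l hl
    rcases Nat.lt_succ_iff_lt_or_eq.1 hl with h | h
    · exact ((hys.sub (supp_fvec le_rfl)).sub ((supp_evec le_rfl).smul t)) l h
    · rw [Fin.ext h]
      rw [om_evec] at h1
      simp [hu, fvec, evec, ht, h1]
  have h0 : om (evec k) u = 0 := (hus.om_left (Nat.lt_succ_self _)).1
  refine ⟨u, t, hus, h0, rfl, ?_⟩
  have hE : eich (evec k) u t ∈ lowFix (k : ℕ) :=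
    eich_mem_lowFix (supp_evec le_rfl) (hus.mono (Nat.le_succ _)) h0 t
  refine mem_lowFix_succ (mul_mem (inv_mem hE) hg) ?_ ?_
  · rw [ap_mul, he, eich_inv h0, ap_eich (by rw [om_neg_right, h0, neg_zero]), om_self, om_neg_left,
      om_skew (evec k) u, h0]
    simp
  · rw [ap_mul, ← hy]
    refine (congrArg (ap _) ?_).trans (ap_inv_ap _ _)
    rw [ap_eich h0, show om u (fvec k) = 0 by rw [om_skew, (hus.om_left (Nat.lt_succ_self _)).2, neg_zero],
      show om (evec k) (fvec k : Vec n F) = 1 by simp [om_evec, fvec], hu]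
    module

end Cfsg.Agent.SpAmalgam
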