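import Cfsg.Agent.SpAmalgam.Heis

/-!
The cosets of the stabiliser of `e_k`: on the vectors with non-zero `f_k` coordinate they are given
by explicit representatives, equivariantly for the members of the amalgam.
-/

set_option autoImplicit false
set_option linter.unusedSectionVars false
set_option linter.unusedSimpArgs false

open Matrix

namespace Cfsg.Agent.SpAmalgam

universe u v

variable {F : Type u} [Field F] {n : ℕ} {U : Type v} [Group U]
variable {π : U →* Sp n F} {A B : Fin n → Subgroup U}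

namespace Step

variable {k k' : Fin n} (S : Step π A B k k')
include S

local notation "L" => lvl A B (k' : ℕ)

theorem supp_succ {x : Vec n F} : Supp (k' : ℕ) x ↔ Supp ((k : ℕ) + 1) x := by rw [S.succ]

theorem supp_k {x : Vec n F} (h : Supp (k' : ℕ) x) : Supp (k : ℕ) x := h.mono (by have := S.succ; omega)

theorem L_le : L ≤ lvl A B (k : ℕ) := lvl_mono (by have := S.succ; omega)

/-- The stabiliser of `e_k`. -/
noncomputable def radK (S : Step π A B k k') : Subgroup U where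
  carrier := {x | ∃ u t m, Supp (k' : ℕ) u ∧ m ∈ L ∧ x = S.q2 u t * m}
  one_mem' := ⟨0, 0, 1, Supp.zero _, one_mem _, by rw [S.q2_zero, mul_one]⟩
  mul_mem' := by
    rintro _ _ ⟨u, s, m, hu, hm, rfl⟩ ⟨v, t, m', hv, hm', rfl⟩
    have hv' : Supp (k' : ℕ) (ap (π m) v) := hv.ap (S.imgL hm)
    refine ⟨u + ap (π m) v, s + t + om u (ap (π m) v), m * m', hu.add hv', mul_mem hm hm', ?_⟩
    rw [← S.q2_mul hu hv', ← S.q2_conj hm hv]
    group
  inv_mem' := by
    rintro _ ⟨u, s, m, hu, hm, rfl⟩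
    refine ⟨ap (π m⁻¹) (-u), -s, m⁻¹, hu.neg.ap (S.imgL (inv_mem hm)), inv_mem hm, ?_⟩
    rw [_root_.mul_inv_rev, S.q2_inv hu, ← S.q2_conj (inv_mem hm) hu.neg]
    group

theorem q2_mem_radK {u : Vec n F} (hu : Supp (k' : ℕ) u) (t : F) : S.q2 u t ∈ S.radK :=
  ⟨u, t, 1, hu, one_mem _, (mul_one _).symm⟩

theorem L_mem_radK {m : U} (hm : m ∈ L) : m ∈ S.radK :=
  ⟨0, 0, m, Supp.zero _, hm, by rw [S.q2_zero, one_mul]⟩

theorem zk_mem_radK (t : F) : zk π A k t ∈ S.radK := S.q2_zero_left t ▸ S.q2_mem_radK (Supp.zero _) t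

theorem radK_free : KerFree π S.radK := by
  rintro _ ⟨u, t, m, hu, hm, rfl⟩ he
  have h := congrArg (fun g => ap g (fvec k)) he
  simp only [map_mul, ap_mul, S.pi_q2 hu, (S.L_fix hm).2, ap_one, ap_eich (S.om_e hu).1, om_evec_fvec,
    (S.om_e hu).2.2.2, one_smul, zero_smul, add_zero, mul_one] at h
  rw [add_assoc, add_eq_left] at h
  have ht : t = 0 := by
    have h1 := congrFun h (Sum.inl k)
    simp [evec, (S.supp_succ.1 hu) k (Nat.lt_succ_self _)] at h1
    exact h1
  rw [ht, zero_smul, add_zero] at h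
  subst h ht
  rw [S.q2_zero, one_mul] at he ⊢
  exact S.good1.1 m hm he

theorem weylU_comm {m : U} (hm : m ∈ L) (b : F) : wU π A k b * m = m * wU π A k b :=
  S.commAL (S.am.wU_spec k b).1 hm

/-- The opposite radical. -/
noncomputable def lowR (S : Step π A B k k') (u : Vec n F) (t : F) : U :=
  wU π A k 1 * S.q2 u t * (wU π A k 1)⁻¹

theorem pi_lowR {u : Vec n F} (hu : Supp (k' : ℕ) u) (t : F) : π (S.lowR u t) = eich (fvec k) u t := by
  rw [lowR, map_mul, map_mul, map_inv, S.pi_q2 hu, eich_conj _ (S.om_e hu).1, (S.am.wU_spec k 1).2,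
    weyl_evec k one_ne_zero, one_smul, fixPairs_ap_supp (weyl_mem k 1) (S.supp_succ.1 hu)]

theorem lowR_zero : S.lowR 0 0 = 1 := by rw [lowR, S.q2_zero, mul_one, mul_inv_cancel]

theorem lowR_mul {u v : Vec n F} (hu : Supp (k' : ℕ) u) (hv : Supp (k' : ℕ) v) (s t : F) :
    S.lowR u s * S.lowR v t = S.lowR (u + v) (s + t + om u v) := by
  simp only [lowR, ← S.q2_mul hu hv]; group

theorem lowR_inv {u : Vec n F} (hu : Supp (k' : ℕ) u) (t : F) : (S.lowR u t)⁻¹ = S.lowR (-u) (-t) := by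
  simp only [lowR, ← S.q2_inv hu]; group

theorem lowR_conj {m : U} (hm : m ∈ L) {u : Vec n F} (hu : Supp (k' : ℕ) u) (t : F) :
    m * S.lowR u t * m⁻¹ = S.lowR (ap (π m) u) t := by
  simp only [lowR]
  rw [← S.q2_conj hm hu]
  calc m * (wU π A k 1 * S.q2 u t * (wU π A k 1)⁻¹) * m⁻¹
      = (m * wU π A k 1) * S.q2 u t * ((wU π A k 1)⁻¹ * m⁻¹) := by group
    _ = (wU π A k 1 * m) * S.q2 u t * (m * wU π A k 1)⁻¹ := by rw [S.weylU_comm hm]; group
    _ = _ := by rw [← S.weylU_comm hm]; group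

theorem lowR_mem_lvl (u : Vec n F) (t : F) : S.lowR u t ∈ lvl A B (k : ℕ) :=
  mul_mem (mul_mem (le_lvlA le_rfl (S.am.wU_spec k 1).1) (S.q2_mem_lvl u t))
    (inv_mem (le_lvlA le_rfl (S.am.wU_spec k 1).1))

theorem lowR_zero_left (t : F) : S.lowR 0 t = vv π A k t := by
  refine S.freeAk.eq ?_ (S.am.vv_spec k t).1 (by rw [S.pi_lowR (Supp.zero _), (S.am.vv_spec k t).2])
  rw [lowR, S.q2_zero_left]
  exact mul_mem (mul_mem (S.am.wU_spec k 1).1 (S.am.zk_spec k t).1) (inv_mem (S.am.wU_spec k 1).1)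

/-- An element of the common image of `A_k` and `B_k` fixing `e_k` is unipotent. -/
theorem dec_stab {g : Sp n F} (hg : g ∈ fixPairs fun l => l ≠ k ∧ l ≠ k')
    (he' : ap g (evec k') = evec k') (he : ap g (evec k) = evec k) :
    ∃ c t t' : F, g = eich (evec k) (c • evec k') t * eich (evec k') 0 t' := by
  have hlow : g ∈ lowFix (k : ℕ) := fun l hl => hg l
    ⟨fun e => by rw [e] at hl; omega, fun e => by rw [e] at hl; have := S.succ; omega⟩
  obtain ⟨u, t, hu, hu0, hdef, hh⟩ := exists_stab hlow he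
  have hu' : Supp (k' : ℕ) u := S.supp_succ.2 hu
  have coord : ∀ (w : Vec n F) (g : Sp n F) (_ : ap g w = w) (x : Vec n F), om w (ap g x) = om w x :=
    fun w g h x => by conv_lhs => rw [← h, om_ap]
  have hue : u = u (Sum.inl k') • evec k' := by
    refine vec_ext (fun l => ?_) fun l => ?_
    · rw [om_smul_right, om_evec_evec, mul_zero]
      by_cases h1 : l = k
      · rw [h1]; exact hu0
      by_cases h2 : l = k'
      · rw [h2, hdef, om_sub_right, om_sub_right, coord _ g he', sub_self, om_smul_right, om_evec_evec,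
          mul_zero, sub_zero]
      rw [hdef, om_sub_right, om_sub_right, coord _ g (hg l ⟨h1, h2⟩).1, sub_self, om_smul_right, om_evec_evec,
        mul_zero, sub_zero]
    · by_cases h1 : l = k
      · rw [h1, om_smul_right, om_fvec_evec_ne S.ne, mul_zero]
        exact (hu.om_left (Nat.lt_succ_self _)).2
      by_cases h2 : l = k'
      · rw [h2, om_smul_right, om_fvec_evec, om_fvec]; ring
      rw [om_smul_right, om_fvec_evec_ne h2, mul_zero, hdef, om_sub_right, om_sub_right,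
        coord _ g (hg l ⟨h1, h2⟩).2, sub_self, om_smul_right, om_fvec_evec_ne h1, mul_zero, sub_zero]
  set c := u (Sum.inl k') with hc
  rw [hue] at hh
  set g1 := (eich (evec k) (c • evec k') t)⁻¹ * g with hg1
  have h0 : om (evec k) (c • evec k' : Vec n F) = 0 := by rw [om_smul_right, om_evec_evec, mul_zero]
  have hEl : ∀ l, l ≠ k → l ≠ k' → ap (eich (evec k) (c • evec k') t) (evec l) = evec l ∧
      ap (eich (evec k) (c • evec k') t) (fvec l) = fvec l := fun l h1 h2 => by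
    simp [ap_eich h0, om_evec_evec, om_smul_left, om_evec_fvec_ne (Ne.symm h1), om_evec_fvec_ne (Ne.symm h2)]
  have hEe' : ap (eich (evec k) (c • evec k') t) (evec k') = evec k' := by
    simp [ap_eich h0, om_evec_evec, om_smul_left]
  have hg1' : g1 ∈ fixPairs fun l => l ≠ k ∧ l ≠ k' := mul_mem (inv_mem fun l hl => hEl l hl.1 hl.2) hg
  have hg1e' : ap g1 (evec k') = evec k' := by
    rw [hg1, ap_mul, he']; conv_lhs => arg 2; rw [← hEe']
    exact ap_inv_ap _ _
  rw [← S.succ] at hh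
  obtain ⟨u', t', hu1, hu10, hdef', hh'⟩ := exists_stab hh hg1e'
  have hg1k := hh k (by have := S.succ; omega)
  have hu'0 : u' = 0 := by
    refine vec_ext (fun l => ?_) fun l => ?_
    all_goals rw [om_zero_right]
    all_goals by_cases h1 : l = k
    · rw [h1]; exact (hu1.om_left (by have := S.succ; omega)).1
    · by_cases h2 : l = k'
      · rw [h2]; exact hu10
      rw [hdef', om_sub_right, om_sub_right, coord _ g1 (hg1' l ⟨h1, h2⟩).1, sub_self, om_smul_right,
        om_evec_evec, mul_zero, sub_zero]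
    · rw [h1]; exact (hu1.om_left (by have := S.succ; omega)).2
    · by_cases h2 : l = k'
      · rw [h2]; exact (hu1.om_left (Nat.lt_succ_self _)).2
      rw [hdef', om_sub_right, om_sub_right, coord _ g1 (hg1' l ⟨h1, h2⟩).2, sub_self, om_smul_right,
        om_fvec_evec_ne h2, mul_zero, sub_zero]
  rw [hu'0] at hh'
  have h1 : (eich (evec k') 0 t')⁻¹ * g1 = 1 := by
    have hT : ∀ l, l ≠ k' → ap (eich (evec k') 0 t') (evec l) = evec l ∧
        ap (eich (evec k') 0 t') (fvec l) = fvec l := fun l h2 => trans_evec_mem k' t' l h2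
    have hall : ∀ l, ap ((eich (evec k') 0 t')⁻¹ * g1) (evec l) = evec l ∧
        ap ((eich (evec k') 0 t')⁻¹ * g1) (fvec l) = fvec l := fun l => by
      by_cases h2 : l = k'
      · exact hh' l (by rw [h2]; omega)
      · by_cases h3 : l = k
        · exact hh' l (by rw [h3]; have := S.succ; omega)
        · have hT' : eich (evec k') 0 t' ∈ fixPairs (fun l => l ≠ k ∧ l ≠ k') := fun l hl => hT l hl.2
          exact mul_mem (inv_mem hT') hg1' l ⟨h3, h2⟩
    exact ext_basis (fun l => by rw [(hall l).1, ap_one]) fun l => by rw [(hall l).2, ap_one]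
  exact ⟨c, t, t', by rw [← inv_mul_eq_iff_eq_mul, ← hg1]; exact (inv_mul_eq_one.1 h1).symm⟩

theorem imgP {p : U} (hp : p ∈ B k ⊔ A k) :
    π p ∈ fixPairs (fun l => l ≠ k ∧ l ≠ k') ∧ ap (π p) (evec k') = evec k' := by
  have hB : ∀ x ∈ B k, π x ∈ fixPairs (fun l => l ≠ k ∧ l ≠ k') ∧ ap (π x) (evec k') = evec k' :=
    fun x hx => ⟨fun l hl => ⟨(S.am.imgB S.lt_n hx).1 l, (S.am.imgB S.lt_n hx).2 l
      (fun e => hl.1 (Fin.ext e)) fun e => hl.2 (Fin.ext (e.trans S.succ.symm))⟩, (S.am.imgB S.lt_n hx).1 k'⟩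
  have hA : ∀ x ∈ A k, π x ∈ fixPairs (fun l => l ≠ k ∧ l ≠ k') ∧ ap (π x) (evec k') = evec k' :=
    fun x hx => ⟨fun l hl => S.am.imgA hx l hl.1, (S.am.imgA hx k' S.ne.symm).1⟩
  rw [Subgroup.sup_eq_closure] at hp
  induction hp using Subgroup.closure_induction with
  | mem x hx => exact hx.elim (hB x) (hA x)
  | one => exact ⟨by rw [map_one]; exact one_mem _, by rw [map_one, ap_one]⟩
  | mul a b _ _ ha hb => exact ⟨by rw [map_mul]; exact mul_mem ha.1 hb.1, by rw [map_mul, ap_mul, hb.2, ha.2]⟩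
  | inv a _ ha => exact ⟨by rw [map_inv]; exact inv_mem ha.1,
      by rw [map_inv]; conv_lhs => rw [← ha.2, ap_inv_ap]⟩

theorem P_stab {p : U} (hp : p ∈ B k ⊔ A k) (he : ap (π p) (evec k) = evec k) : p ∈ S.radK := by
  obtain ⟨c, t, t', hd⟩ := S.dec_stab (S.imgP hp).1 (S.imgP hp).2 he
  have hc : Supp (k' : ℕ) (c • evec k' : Vec n F) := S.supp_e'.smul c
  have hq : S.q2 (c • evec k') t = b0 π B k k' c * zk π A k t := by rw [q2, S.qv_smul]
  have hz : zk π A k' t' ∈ L := le_lvlA le_rfl (S.am.zk_spec k' t').1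
  have h := S.freeP.eq hp (y := S.q2 (c • evec k') t * zk π A k' t')
    (mul_mem (hq ▸ mul_mem (Subgroup.mem_sup_left (S.b0_spec c).1) (Subgroup.mem_sup_right (S.am.zk_spec k t).1))
      (Subgroup.mem_sup_left (S.zk'_mem_B t'))) (by rw [hd, map_mul, S.pi_q2 hc, (S.am.zk_spec k' t').2])
  rw [h]
  exact mul_mem (S.q2_mem_radK hc t) (S.L_mem_radK hz)

/-- The coordinates with respect to `e_k`, `f_k`. -/
theorem coords_mk {v : Vec n F} (hv : Supp (k' : ℕ) v) (a b : F) :
    om (evec k) (b • fvec k + v + a • evec k) = b ∧ om (b • fvec k + v + a • evec k) (fvec k) = a := by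
  constructor <;>
  simp [om_add_left, om_add_right, om_smul_left, om_smul_right, om_evec_evec, om_evec_fvec, om_fvec_fvec,
    (S.om_e hv).1, (S.om_e hv).2.2.2]

theorem coords_supp {x : Vec n F} (hx : Supp (k : ℕ) x) :
    Supp (k' : ℕ) (x - om (evec k) x • fvec k - om x (fvec k) • evec k) := by
  refine S.supp_succ.2 (supp_iff.2 fun l hl => ?_)
  rcases Nat.lt_succ_iff_lt_or_eq.1 hl with h | h
  · have hne : l ≠ k := fun e => by rw [e] at h; omega
    obtain ⟨h1, h2⟩ := hx.om_left h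
    simp [om_sub_right, om_smul_right, h1, h2, om_evec_evec, om_fvec_fvec, om_evec_fvec_ne hne,
      om_fvec_evec_ne hne]
  · rw [Fin.ext h]
    simp [om_sub_right, om_add_right, om_smul_right, om_evec_evec, om_evec_fvec, om_fvec_evec, om_fvec_fvec,
      om_skew (fvec k) x]

theorem exists_coords {x : Vec n F} (hx : Supp (k : ℕ) x) :
    ∃ (a b : F) (v : Vec n F), Supp (k' : ℕ) v ∧ x = b • fvec k + v + a • evec k :=
  ⟨om x (fvec k), om (evec k) x, _, S.coords_supp hx, by module⟩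

/-- The representative of a big vector. -/
noncomputable def rep (S : Step π A B k k') (x : Vec n F) : U :=
  S.q2 ((om (evec k) x)⁻¹ • (x - om (evec k) x • fvec k - om x (fvec k) • evec k))
    ((om (evec k) x)⁻¹ * om x (fvec k)) * wU π A k (om (evec k) x)

theorem rep_mk {v : Vec n F} (hv : Supp (k' : ℕ) v) (a b : F) :
    S.rep (b • fvec k + v + a • evec k) = S.q2 (b⁻¹ • v) (b⁻¹ * a) * wU π A k b := by
  rw [rep, (S.coords_mk hv a b).1, (S.coords_mk hv a b).2]
  congr 3
  abel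

theorem pi_rep {v : Vec n F} (hv : Supp (k' : ℕ) v) (a : F) {b : F} (hb : b ≠ 0) :
    ap (π (S.rep (b • fvec k + v + a • evec k))) (evec k) = b • fvec k + v + a • evec k := by
  rw [S.rep_mk hv, map_mul, ap_mul, (S.am.wU_spec k b).2, weyl_evec k hb, S.pi_q2 (hv.smul _),
    ap_eich (S.om_e (hv.smul _)).1, om_smul_right, om_evec_fvec, om_smul_right, (S.om_e (hv.smul _)).2.2.2]
  match_scalars <;> field_simp <;> ring

theorem rep_mem_lvl (x : Vec n F) : S.rep x ∈ lvl A B (k : ℕ) :=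
  mul_mem (S.q2_mem_lvl _ _) (le_lvlA le_rfl (S.am.wU_spec k _).1)

/-- The coset of a big vector. -/
noncomputable def big (S : Step π A B k k') (x : Vec n F) : U ⧸ S.radK := QuotientGroup.mk (S.rep x)

/-- Equivariance of `big` at a point. -/
def Ev (S : Step π A B k k') (g : U) (x : Vec n F) : Prop := g • S.big x = S.big (ap (π g) x)

theorem ev_one (x : Vec n F) : S.Ev 1 x := by rw [Ev, one_smul, map_one, ap_one]

theorem ev_mul {g h : U} {x : Vec n F} (hh : S.Ev h x) (hg : S.Ev g (ap (π h) x)) : S.Ev (g * h) x := by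
  rw [Ev, mul_smul, hh, hg, map_mul, ap_mul]

theorem ev_inv {g : U} {x : Vec n F} (hg : S.Ev g (ap (π g⁻¹) x)) : S.Ev g⁻¹ x := by
  rw [Ev] at hg
  rw [map_inv, ap_ap_inv] at hg
  rw [Ev, inv_smul_eq_iff, map_inv]
  exact hg.symm

theorem ev_iff {g : U} {x : Vec n F} : S.Ev g x ↔ (g * S.rep x)⁻¹ * S.rep (ap (π g) x) ∈ S.radK := by
  rw [Ev, big, big, MulAction.Quotient.smul_coe, smul_eq_mul, QuotientGroup.eq]

theorem ev_q2 {u : Vec n F} (hu : Supp (k' : ℕ) u) (t : F) {x : Vec n F} (hx : Supp (k : ℕ) x)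
    (hb : om (evec k) x ≠ 0) :
    S.Ev (S.q2 u t) x ∧ om (evec k) (ap (π (S.q2 u t)) x) = om (evec k) x := by
  obtain ⟨a, b, v, hv, rfl⟩ := S.exists_coords hx
  rw [(S.coords_mk hv a b).1] at hb ⊢
  have hy : ap (π (S.q2 u t)) (b • fvec k + v + a • evec k) =
      b • fvec k + (v + b • u) + (a + om u v + t * b) • evec k := by
    rw [S.pi_q2 hu, ap_eich (S.om_e hu).1]
    simp only [om_add_right, om_smul_right, (S.om_e hu).2.2.1, (S.om_e hu).2.2.2, (S.om_e hv).1, om_evec_fvec,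
      om_evec_evec]
    match_scalars <;> ring
  have hv' : Supp (k' : ℕ) (v + b • u) := hv.add (hu.smul b)
  refine ⟨S.ev_iff.2 ?_, by rw [hy, (S.coords_mk hv' _ b).1]⟩
  rw [hy, S.rep_mk hv, S.rep_mk hv', ← mul_assoc (S.q2 u t), S.q2_mul hu (hv.smul _)]
  have e : b⁻¹ • (v + b • u) = u + b⁻¹ • v := by
    rw [smul_add, smul_smul, inv_mul_cancel₀ hb, one_smul, add_comm]
  rw [e, om_smul_right, show b⁻¹ * (a + om u v + t * b) = t + b⁻¹ * a + b⁻¹ * om u v by field_simp; ring,
    inv_mul_cancel]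
  exact one_mem _

theorem ev_L {m : U} (hm : m ∈ L) {x : Vec n F} (hx : Supp (k : ℕ) x) :
    S.Ev m x ∧ om (evec k) (ap (π m) x) = om (evec k) x ∧ om (ap (π m) x) (fvec k) = om x (fvec k) := by
  obtain ⟨a, b, v, hv, rfl⟩ := S.exists_coords hx
  have hy : ap (π m) (b • fvec k + v + a • evec k) = b • fvec k + ap (π m) v + a • evec k := by
    rw [ap_add, ap_add, ap_smul, ap_smul, (S.L_fix hm).1, (S.L_fix hm).2]
  have hv' : Supp (k' : ℕ) (ap (π m) v) := hv.ap (S.imgL hm)
  refine ⟨S.ev_iff.2 ?_, by rw [hy, (S.coords_mk hv' a b).1, (S.coords_mk hv a b).1],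
    by rw [hy, (S.coords_mk hv' a b).2, (S.coords_mk hv a b).2]⟩
  rw [hy, S.rep_mk hv, S.rep_mk hv', ← ap_smul, ← S.q2_conj hm (hv.smul _)]
  have e : (m * (S.q2 (b⁻¹ • v) (b⁻¹ * a) * wU π A k b))⁻¹ *
      (m * S.q2 (b⁻¹ • v) (b⁻¹ * a) * m⁻¹ * wU π A k b) = m⁻¹ := by
    calc _ = (wU π A k b)⁻¹ * (m⁻¹ * wU π A k b) := by group
      _ = (wU π A k b)⁻¹ * (wU π A k b * m⁻¹) := by rw [S.weylU_comm (inv_mem hm)]
      _ = m⁻¹ := by group
  rw [e]
  exact inv_mem (S.L_mem_radK hm)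

theorem ev_A {g : U} (hg : g ∈ A k) {x : Vec n F} (hx : Supp (k : ℕ) x) (hb : om (evec k) x ≠ 0)
    (hb' : om (evec k) (ap (π g) x) ≠ 0) : S.Ev g x := by
  obtain ⟨a, b, v, hv, rfl⟩ := S.exists_coords hx
  rw [(S.coords_mk hv a b).1] at hb
  set z := b • fvec k + (0 : Vec n F) + a • evec k with hz
  have hzk : ∀ l : Fin n, l ≠ k → om (evec l) z = 0 ∧ om (fvec l) z = 0 := fun l hl => by
    simp [hz, om_add_right, om_smul_right, om_evec_evec, om_fvec_fvec, om_evec_fvec_ne hl, om_fvec_evec_ne hl]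
  set a' := om (ap (π g) z) (fvec k) with ha'
  set b' := om (evec k) (ap (π g) z) with hb''
  have hgz : ap (π g) z = b' • fvec k + (0 : Vec n F) + a' • evec k := by
    refine vec_ext (fun l => ?_) fun l => ?_
    all_goals by_cases hl : l = k
    · rw [hl]; simp [om_add_right, om_smul_right, om_evec_evec, om_evec_fvec, hb'']
    · have h := (S.am.imgA hg l hl).1
      conv_lhs => rw [← h, om_ap, (hzk l hl).1]
      simp [om_add_right, om_smul_right, om_evec_evec, om_evec_fvec_ne hl]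
    · rw [hl]; simp [om_add_right, om_neg_right, om_smul_right, om_fvec_fvec, om_fvec_evec, ha', om_skew (fvec k) (ap (π g) z)]
    · have h := (S.am.imgA hg l hl).2
      conv_lhs => rw [← h, om_ap, (hzk l hl).2]
      simp [om_add_right, om_smul_right, om_fvec_fvec, om_fvec_evec_ne hl]
  have himg : ∀ w : Vec n F, Supp (k' : ℕ) w →
      ap (π g) (b • fvec k + w + a • evec k) = b' • fvec k + w + a' • evec k := fun w hw => by
    rw [show b • fvec k + w + a • evec k = z + w by rw [hz]; abel, ap_add, hgz,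
      fixPairs_ap_supp (S.am.imgA hg) (S.supp_succ.1 hw)]
    abel
  rw [himg v hv, (S.coords_mk hv a' b').1] at hb'
  have key : ∀ w : Vec n F, Supp (k' : ℕ) w →
      ((S.rep (b' • fvec k + w + a' • evec k))⁻¹ * g * S.rep (b • fvec k + w + a • evec k) ∈ B k ⊔ A k) →
      (S.rep (b' • fvec k + w + a' • evec k))⁻¹ * g * S.rep (b • fvec k + w + a • evec k) ∈ S.radK :=
    fun w hw hmem => S.P_stab hmem (by
      rw [map_mul, map_mul, ap_mul, ap_mul, S.pi_rep hw a hb, himg w hw, map_inv]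
      conv_lhs => arg 2; rw [← S.pi_rep hw a' hb']
      exact ap_inv_ap _ _)
  rw [S.ev_iff, himg v hv]
  refine inv_mem_iff.1 ?_
  rw [_root_.mul_inv_rev, inv_inv, ← mul_assoc]
  have hw1 := fun b => Subgroup.mem_sup_right (S := B k) (S.am.wU_spec k b).1
  by_cases hv0 : v = 0
  · subst hv0
    have hmem : ∀ a b : F, S.rep (b • fvec k + 0 + a • evec k) ∈ B k ⊔ A k := fun a b => by
      rw [S.rep_mk hv, smul_zero, S.q2_zero_left]
      exact mul_mem (Subgroup.mem_sup_right (S.am.zk_spec k _).1) (hw1 b)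
    exact key 0 hv (mul_mem (mul_mem (inv_mem (hmem a' b')) (Subgroup.mem_sup_right hg)) (hmem a b))
  obtain ⟨m, hm, rfl⟩ := S.exists_mov hv hv0
  have hrep : ∀ a b : F, S.rep (b • fvec k + ap (π m) (evec k') + a • evec k) =
      m * S.rep (b • fvec k + evec k' + a • evec k) * m⁻¹ := fun a b => by
    rw [S.rep_mk hv, S.rep_mk S.supp_e', ← ap_smul, ← S.q2_conj hm (S.supp_e'.smul _)]
    calc _ = m * S.q2 (b⁻¹ • evec k') (b⁻¹ * a) * (m⁻¹ * wU π A k b) := by group
      _ = _ := by rw [← S.weylU_comm (inv_mem hm)]; group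
  have hmem : ∀ a b : F, S.rep (b • fvec k + evec k' + a • evec k) ∈ B k ⊔ A k := fun a b => by
    rw [S.rep_mk S.supp_e', q2, S.qv_smul]
    exact mul_mem (mul_mem (Subgroup.mem_sup_left (S.b0_spec _).1)
      (Subgroup.mem_sup_right (S.am.zk_spec k _).1)) (hw1 b)
  have h1 := key _ S.supp_e' (mul_mem (mul_mem (inv_mem (hmem a' b')) (Subgroup.mem_sup_right hg)) (hmem a b))
  rw [hrep, hrep]
  have e : (m * S.rep (b' • fvec k + evec k' + a' • evec k) * m⁻¹)⁻¹ * g *
      (m * S.rep (b • fvec k + evec k' + a • evec k) * m⁻¹) =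
      m * ((S.rep (b' • fvec k + evec k' + a' • evec k))⁻¹ * g * S.rep (b • fvec k + evec k' + a • evec k)) * m⁻¹ := by
    calc _ = m * (S.rep (b' • fvec k + evec k' + a' • evec k))⁻¹ * m⁻¹ * (g * m) *
          S.rep (b • fvec k + evec k' + a • evec k) * m⁻¹ := by group
      _ = _ := by rw [S.commAL hg hm]; group
  rw [e]
  exact mul_mem (mul_mem (S.L_mem_radK hm) h1) (inv_mem (S.L_mem_radK hm))

end Step

end Cfsg.Agent.SpAmalgam
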