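import Cfsg.Agent.SpAmalgam.Basic

/-!
An amalgam over the symplectic group: the hypotheses, commutation between the members, and the
elements of one inductive step.
-/

set_option autoImplicit false
set_option linter.unusedSectionVars false
set_option linter.unusedSimpArgs false

open Matrix

namespace Cfsg.Agent.SpAmalgam

universe u v

variable {F : Type u} [Field F] {n : ℕ} {U : Type v} [Group U]

/-- `π` has trivial kernel on `X`. -/
def KerFree (π : U →* Sp n F) (X : Subgroup U) : Prop := ∀ x ∈ X, π x = 1 → x = 1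

variable {π : U →* Sp n F} {A B : Fin n → Subgroup U}

theorem KerFree.eq {X : Subgroup U} (h : KerFree π X) {x y : U} (hx : x ∈ X) (hy : y ∈ X)
    (e : π x = π y) : x = y :=
  inv_mul_eq_one.1 (h _ (X.mul_mem (X.inv_mem hx) hy) (by rw [map_mul, map_inv, e, inv_mul_cancel]))

theorem KerFree.comm {X : Subgroup U} (h : KerFree π X) {x y : U} (hx : x ∈ X) (hy : y ∈ X)
    (e : π x * π y = π y * π x) : x * y = y * x :=
  h.eq (X.mul_mem hx hy) (X.mul_mem hy hx) (by rw [map_mul, map_mul, e])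

open Classical in
/-- A preimage in `X`. -/
noncomputable def lift (π : U →* Sp n F) (X : Subgroup U) (g : Sp n F) : U :=
  if h : g ∈ X.map π then Classical.choose h else 1

theorem lift_spec {X : Subgroup U} {g : Sp n F} (h : g ∈ X.map π) :
    lift π X g ∈ X ∧ π (lift π X g) = g := by
  rw [lift, dif_pos h]
  exact Classical.choose_spec h

/-- The amalgam. -/
structure Amalgam (π : U →* Sp n F) (A B : Fin n → Subgroup U) : Prop where
  field : ∃ a : F, a ≠ 0 ∧ a ≠ 1
  mapA : ∀ j, (A j).map π = fixPairs fun l => l ≠ j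
  mapB : ∀ i : Fin n, (i : ℕ) + 1 < n → (B i).map π = mGrp i
  freeAA : ∀ j l, j ≠ l → KerFree π (A j ⊔ A l)
  freeBB : ∀ i i' : Fin n, i ≠ i' → (i : ℕ) + 1 < n → (i' : ℕ) + 1 < n → KerFree π (B i ⊔ B i')
  freeBA : ∀ i j : Fin n, (i : ℕ) + 1 < n → KerFree π (B i ⊔ A j)

/-- The subgroup generated by the members of index at least `k`. -/
def lvl (A B : Fin n → Subgroup U) (k : ℕ) : Subgroup U :=
  (⨆ (j : Fin n) (_ : k ≤ j), A j) ⊔ ⨆ (i : Fin n) (_ : k ≤ i ∧ (i : ℕ) + 1 < n), B i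

theorem le_lvlA {k : ℕ} {j : Fin n} (h : k ≤ j) : A j ≤ lvl A B k :=
  le_sup_of_le_left (le_iSup₂_of_le j h le_rfl)

theorem le_lvlB {k : ℕ} {i : Fin n} (h : k ≤ i) (h' : (i : ℕ) + 1 < n) : B i ≤ lvl A B k :=
  le_sup_of_le_right (le_iSup₂_of_le i ⟨h, h'⟩ le_rfl)

theorem lvl_le {k : ℕ} {X : Subgroup U} (hA : ∀ j : Fin n, k ≤ j → A j ≤ X)
    (hB : ∀ i : Fin n, k ≤ i → (i : ℕ) + 1 < n → B i ≤ X) : lvl A B k ≤ X :=
  sup_le (iSup₂_le hA) (iSup₂_le fun i hi => hB i hi.1 hi.2)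

theorem lvl_mono {k k' : ℕ} (h : k ≤ k') : lvl A B k' ≤ lvl A B k :=
  lvl_le (fun _ hj => le_lvlA (h.trans hj)) fun _ hi hi' => le_lvlB (h.trans hi) hi'

namespace Amalgam

variable (am : Amalgam π A B)
include am

theorem imgA {j : Fin n} {x : U} (hx : x ∈ A j) : π x ∈ fixPairs fun l => l ≠ j :=
  am.mapA j ▸ Subgroup.mem_map_of_mem π hx

theorem imgB {i : Fin n} (hi : (i : ℕ) + 1 < n) {x : U} (hx : x ∈ B i) : π x ∈ mGrp i :=
  am.mapB i hi ▸ Subgroup.mem_map_of_mem π hx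

theorem commAA {j l : Fin n} (h : j ≠ l) {x y : U} (hx : x ∈ A j) (hy : y ∈ A l) : x * y = y * x :=
  (am.freeAA j l h).comm (Subgroup.mem_sup_left hx) (Subgroup.mem_sup_right hy)
    (commute_of_fixPairs (am.imgA hx) fun m hm => am.imgA hy m fun e => h ((not_not.1 hm).symm.trans e))

theorem commBB {i i' : Fin n} (hi : (i : ℕ) + 1 < n) (hi' : (i' : ℕ) + 1 < n) {x y : U} (hx : x ∈ B i)
    (hy : y ∈ B i') : x * y = y * x := by
  by_cases h : i = i'
  · subst h
    exact (am.freeBA i i hi).comm (Subgroup.mem_sup_left hx) (Subgroup.mem_sup_left hy)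
      (commute_of_fix_evec (am.imgB hi hx).1 (am.imgB hi hy).1)
  · exact (am.freeBB i i' h hi hi').comm (Subgroup.mem_sup_left hx) (Subgroup.mem_sup_right hy)
      (commute_of_fix_evec (am.imgB hi hx).1 (am.imgB hi' hy).1)

theorem commBA {i j : Fin n} (hi : (i : ℕ) + 1 < n) (h : (j : ℕ) ≠ i) (h' : (j : ℕ) ≠ (i : ℕ) + 1)
    {x y : U} (hx : x ∈ B i) (hy : y ∈ A j) : x * y = y * x :=
  (am.freeBA i j hi).comm (Subgroup.mem_sup_left hx) (Subgroup.mem_sup_right hy)
    (commute_of_fixPairs (p := fun l => l = j)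
      (fun l hl => by subst hl; exact ⟨(am.imgB hi hx).1 _, (am.imgB hi hx).2 _ h h'⟩) (am.imgA hy))

theorem map_lvl_le (k : ℕ) : (lvl A B k).map π ≤ lowFix k := by
  rw [Subgroup.map_le_iff_le_comap]
  refine lvl_le (fun j hj x hx l hl => am.imgA hx l fun e => ?_) fun i hi hi' x hx l hl => ?_
  · exact absurd (e ▸ hl) (not_lt.2 hj)
  · exact ⟨(am.imgB hi' hx).1 l, (am.imgB hi' hx).2 l (by omega) (by omega)⟩

end Amalgam

/-- The inductive claim. -/
def Good (π : U →* Sp n F) (A B : Fin n → Subgroup U) (k : ℕ) : Prop :=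
  KerFree π (lvl A B k) ∧ (lvl A B k).map π = lowFix k

/-- The data of one step of the induction. -/
structure Step (π : U →* Sp n F) (A B : Fin n → Subgroup U) (k k' : Fin n) : Prop where
  am : Amalgam π A B
  succ : (k' : ℕ) = (k : ℕ) + 1
  good1 : Good π A B (k' : ℕ)
  good2 : Good π A B ((k' : ℕ) + 1)

/-- The `SL₂` element `e ↦ b f`, `f ↦ -b⁻¹ e`. -/
noncomputable def weyl (k : Fin n) (b : F) : Sp n F :=
  eich (evec k) 0 (-b⁻¹) * eich (fvec k) 0 (-b) * eich (evec k) 0 (-b⁻¹)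

theorem om_evec_evec (k l : Fin n) : om (evec k : Vec n F) (evec l) = 0 := by rw [om_evec]; simp [evec]

theorem om_fvec_fvec (k l : Fin n) : om (fvec k : Vec n F) (fvec l) = 0 := by rw [om_fvec]; simp [fvec]

theorem om_evec_fvec (k : Fin n) : om (evec k : Vec n F) (fvec k) = 1 := by simp [om_evec, fvec]

theorem om_fvec_evec (k : Fin n) : om (fvec k : Vec n F) (evec k) = -1 := by simp [om_fvec, evec]

theorem om_evec_fvec_ne {k l : Fin n} (h : k ≠ l) : om (evec k : Vec n F) (fvec l) = 0 := by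
  simp [om_evec, fvec, Pi.single_apply, h]

theorem om_fvec_evec_ne {k l : Fin n} (h : k ≠ l) : om (fvec k : Vec n F) (evec l) = 0 := by
  simp [om_fvec, evec, Pi.single_apply, h]

theorem weyl_evec (k : Fin n) {b : F} (hb : b ≠ 0) : ap (weyl k b) (evec k) = b • fvec k := by
  simp only [weyl, ap_mul, ap_trans, om_add_right, om_smul_right, om_evec_evec, om_fvec_fvec, om_evec_fvec,
    om_fvec_evec, mul_zero, zero_smul, add_zero]
  match_scalars <;> field_simp <;> ring

theorem weyl_fvec (k : Fin n) {b : F} (hb : b ≠ 0) : ap (weyl k b) (fvec k) = (-b⁻¹) • evec k := by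
  simp only [weyl, ap_mul, ap_trans, om_add_right, om_smul_right, om_evec_evec, om_fvec_fvec, om_evec_fvec,
    om_fvec_evec, mul_zero, zero_smul, add_zero]
  match_scalars <;> field_simp <;> ring

theorem trans_evec_mem (k : Fin n) (t : F) : eich (evec k) 0 t ∈ fixPairs fun l => l ≠ k := by
  intro l hl
  simp [ap_trans, om_evec_evec, om_evec_fvec_ne (Ne.symm hl)]

theorem trans_fvec_mem (k : Fin n) (t : F) : eich (fvec k) 0 t ∈ fixPairs fun l => l ≠ k := by
  intro l hl
  simp [ap_trans, om_fvec_fvec, om_fvec_evec_ne (Ne.symm hl)]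

theorem weyl_mem (k : Fin n) (b : F) : weyl k b ∈ fixPairs fun l => l ≠ k :=
  mul_mem (mul_mem (trans_evec_mem k _) (trans_fvec_mem k _)) (trans_evec_mem k _)

theorem fixPairs_ap_supp {k : Fin n} {g : Sp n F} (hg : g ∈ fixPairs fun l => l ≠ k) {x : Vec n F}
    (hx : Supp ((k : ℕ) + 1) x) : ap g x = x :=
  ap_eq_self_of_coord g fun i hi => by
    rcases i with i | i
    · exact (hg i fun e => hi (e ▸ (hx k (Nat.lt_succ_self _)).1)).1
    · exact (hg i fun e => hi (e ▸ (hx k (Nat.lt_succ_self _)).2)).2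

theorem exists_pairing {m : ℕ} {x : Vec n F} (hx : Supp m x) (hne : x ≠ 0) (c : F) :
    ∃ z, Supp m z ∧ om z x = c := by
  obtain ⟨i, hi⟩ := Function.ne_iff.1 hne
  rcases i with i | i
  · have hm : m ≤ i := not_lt.1 fun h => hi (hx i h).1
    refine ⟨(-(c / x (Sum.inl i))) • fvec i, (supp_fvec hm).smul _, ?_⟩
    have hi' : x (Sum.inl i) ≠ 0 := hi
    rw [om_smul_left, om_fvec]; field_simp
  · have hm : m ≤ i := not_lt.1 fun h => hi (hx i h).2
    refine ⟨(c / x (Sum.inr i)) • evec i, (supp_evec hm).smul _, ?_⟩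
    have hi' : x (Sum.inr i) ≠ 0 := hi
    rw [om_smul_left, om_evec]; field_simp

end Cfsg.Agent.SpAmalgam
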