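import Cfsg.Agent.SpAmalgam.Defs

/-!
The unipotent radical of the stabiliser of `e_k`: the lifts `qv u` form a Heisenberg group.
-/

set_option autoImplicit false
set_option linter.unusedSectionVars false
set_option linter.unusedSimpArgs false

open Matrix

namespace Cfsg.Agent.SpAmalgam

universe u v

variable {F : Type u} [Field F] {n : ℕ} {U : Type v} [Group U]

/-- The upper long root element of the pair `j`. -/
noncomputable def zk (π : U →* Sp n F) (A : Fin n → Subgroup U) (j : Fin n) (t : F) : U :=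
  lift π (A j) (eich (evec j) 0 t)

/-- The lower long root element of the pair `j`. -/
noncomputable def vv (π : U →* Sp n F) (A : Fin n → Subgroup U) (j : Fin n) (t : F) : U :=
  lift π (A j) (eich (fvec j) 0 t)

/-- The lift of `weyl`. -/
noncomputable def wU (π : U →* Sp n F) (A : Fin n → Subgroup U) (j : Fin n) (b : F) : U :=
  zk π A j (-b⁻¹) * vv π A j (-b) * zk π A j (-b⁻¹)

/-- The short root element. -/
noncomputable def b0 (π : U →* Sp n F) (B : Fin n → Subgroup U) (k k' : Fin n) (c : F) : U :=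
  lift π (B k) (eich (evec k) (c • evec k') 0)

open Classical in
/-- The lift of `eich e_k u 0`. -/
noncomputable def qv (π : U →* Sp n F) (A B : Fin n → Subgroup U) (k k' : Fin n) (u : Vec n F) : U :=
  if u = 0 then 1
  else if h : ∃ m ∈ lvl A B (k' : ℕ), ap (π m) (evec k') = u then
    Classical.choose h * b0 π B k k' 1 * (Classical.choose h)⁻¹
  else 1

variable {π : U →* Sp n F} {A B : Fin n → Subgroup U}

namespace Amalgam

variable (am : Amalgam π A B)
include am

theorem zk_spec (j : Fin n) (t : F) : zk π A j t ∈ A j ∧ π (zk π A j t) = eich (evec j) 0 t :=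
  lift_spec (am.mapA j ▸ trans_evec_mem j t)

theorem vv_spec (j : Fin n) (t : F) : vv π A j t ∈ A j ∧ π (vv π A j t) = eich (fvec j) 0 t :=
  lift_spec (am.mapA j ▸ trans_fvec_mem j t)

theorem wU_spec (j : Fin n) (b : F) : wU π A j b ∈ A j ∧ π (wU π A j b) = weyl j b :=
  ⟨mul_mem (mul_mem (am.zk_spec j _).1 (am.vv_spec j _).1) (am.zk_spec j _).1, by
    rw [wU, map_mul, map_mul, (am.zk_spec j _).2, (am.vv_spec j _).2, weyl]⟩

theorem freeA {j l : Fin n} (h : j ≠ l) : KerFree π (A j) :=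
  fun x hx e => am.freeAA j l h x (Subgroup.mem_sup_left hx) e

end Amalgam

namespace Step

variable {k k' : Fin n} (S : Step π A B k k')
include S

local notation "L" => lvl A B (k' : ℕ)

theorem lt_n : (k : ℕ) + 1 < n := S.succ ▸ k'.isLt

theorem ne : k ≠ k' := fun h => by
  have := S.succ
  rw [← h] at this
  omega

theorem freeP : KerFree π (B k ⊔ A k) := S.am.freeBA k k S.lt_n

theorem freeP' : KerFree π (B k ⊔ A k') := S.am.freeBA k k' S.lt_n

theorem freeAk : KerFree π (A k) := S.am.freeA S.ne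

theorem commAL {x y : U} (hx : x ∈ A k) (hy : y ∈ L) : x * y = y * x := by
  have h : lvl A B (k' : ℕ) ≤ Subgroup.centralizer {x} := by
    refine lvl_le (fun j hj z hz => ?_) fun i hi hi' z hz => ?_
    all_goals rw [Subgroup.mem_centralizer_singleton_iff]
    · exact S.am.commAA (fun e => by have := S.succ; rw [e] at hj; omega) hz hx
    · exact S.am.commBA hi' (by have := S.succ; omega) (by have := S.succ; omega) hz hx
  exact (Subgroup.mem_centralizer_singleton_iff.1 (h hy)).symm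

theorem commB_lvl2 {x y : U} (hx : x ∈ B k) (hy : y ∈ lvl A B ((k' : ℕ) + 1)) : x * y = y * x := by
  have h : lvl A B ((k' : ℕ) + 1) ≤ Subgroup.centralizer {x} := by
    refine lvl_le (fun j hj z hz => ?_) fun i hi hi' z hz => ?_
    all_goals rw [Subgroup.mem_centralizer_singleton_iff]
    · exact (S.am.commBA S.lt_n (by have := S.succ; omega) (by have := S.succ; omega) hx hz).symm
    · exact (S.am.commBB S.lt_n hi' hx hz).symm
  exact (Subgroup.mem_centralizer_singleton_iff.1 (h hy)).symm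

theorem map_L {g : Sp n F} (hg : g ∈ lowFix (k' : ℕ)) : g ∈ (L).map π := S.good1.2 ▸ hg

theorem imgL {x : U} (hx : x ∈ L) : π x ∈ lowFix (k' : ℕ) := S.good1.2 ▸ Subgroup.mem_map_of_mem π hx

theorem L_fix {x : U} (hx : x ∈ L) :
    ap (π x) (evec k) = evec k ∧ ap (π x) (fvec k) = fvec k :=
  S.imgL hx k (by have := S.succ; omega)

theorem supp_e' : Supp (k' : ℕ) (evec k' : Vec n F) := supp_evec le_rfl

theorem om_e {u : Vec n F} (hu : Supp (k' : ℕ) u) :
    om (evec k) u = 0 ∧ om (fvec k) u = 0 ∧ om u (evec k) = 0 ∧ om u (fvec k) = 0 := by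
  obtain ⟨h1, h2⟩ := hu.om_left (l := k) (by have := S.succ; omega)
  exact ⟨h1, h2, by rw [om_skew, h1, neg_zero], by rw [om_skew, h2, neg_zero]⟩

theorem b0_spec (c : F) : b0 π B k k' c ∈ B k ∧ π (b0 π B k k' c) = eich (evec k) (c • evec k') 0 := by
  refine lift_spec (S.am.mapB k S.lt_n ▸ ?_)
  have h : om (evec k) (c • evec k' : Vec n F) = 0 := by rw [om_smul_right, om_evec_evec, mul_zero]
  refine ⟨fun l => ?_, fun l h1 h2 => ?_⟩
  · simp [ap_eich h, om_evec_evec, om_smul_left]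
  · have e1 : k ≠ l := fun e => h1 (e ▸ rfl)
    have e2 : k' ≠ l := fun e => h2 (e ▸ S.succ)
    simp [ap_eich h, om_evec_fvec_ne e1, om_evec_fvec_ne e2, om_smul_left]

theorem zk'_mem_B (t : F) : zk π A k' t ∈ B k := by
  obtain ⟨b, hb, hbe⟩ : eich (evec k') 0 t ∈ (B k).map π := by
    rw [S.am.mapB k S.lt_n]
    refine ⟨fun l => by simp [ap_trans, om_evec_evec], fun l _ h2 => ?_⟩
    simp [ap_trans, om_evec_fvec_ne (fun e : k' = l => h2 (e ▸ S.succ))]
  have h := S.freeP'.eq (Subgroup.mem_sup_right (S.am.zk_spec k' t).1) (Subgroup.mem_sup_left hb)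
    (by rw [(S.am.zk_spec k' t).2, hbe])
  rwa [h]

theorem zk_comm_B (t : F) {x : U} (hx : x ∈ B k) : zk π A k t * x = x * zk π A k t :=
  S.freeP.comm (Subgroup.mem_sup_right (S.am.zk_spec k t).1) (Subgroup.mem_sup_left hx) (by
    rw [(S.am.zk_spec k t).2]
    exact commute_of_fix_evec (fun l => by simp [ap_trans, om_evec_evec]) (S.am.imgB S.lt_n hx).1)

/-- The stabiliser of `e_{k+1}` centralizes the short root elements. -/
theorem stab_comm {m : U} (hm : m ∈ L) (he : ap (π m) (evec k') = evec k') (c : F) :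
    m * b0 π B k k' c = b0 π B k k' c * m := by
  obtain ⟨u, t, hu, hu0, -, hh⟩ := exists_stab (S.imgL hm) he
  obtain ⟨m2, hm2, hm2e⟩ : (eich (evec k') u t)⁻¹ * π m ∈ (lvl A B ((k' : ℕ) + 1)).map π := S.good2.2 ▸ hh
  have hb := (S.b0_spec c).1
  suffices ∃ x ∈ L, π x = eich (evec k') u t ∧ x * b0 π B k k' c = b0 π B k k' c * x by
    obtain ⟨x, hx, hxe, hxc⟩ := this
    have hm' : m = x * m2 := S.good1.1.eq hm (mul_mem hx (lvl_mono (Nat.le_succ _) hm2))
      (by rw [map_mul, hxe, hm2e, mul_inv_cancel_left])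
    rw [hm', mul_assoc, ← S.commB_lvl2 hb hm2, ← mul_assoc, hxc, mul_assoc]
  have hz : ∀ t, zk π A k' t * b0 π B k k' c = b0 π B k k' c * zk π A k' t := fun t =>
    S.am.commBB S.lt_n S.lt_n (S.zk'_mem_B t) hb
  by_cases hu1 : u = 0
  · exact ⟨zk π A k' t, le_lvlA le_rfl (S.am.zk_spec k' t).1, by rw [hu1, (S.am.zk_spec k' t).2], hz t⟩
  have hlt : (k' : ℕ) + 1 < n := by
    obtain ⟨i, hi⟩ := Function.ne_iff.1 hu1
    rcases i with i | i
    · by_contra h; exact hi (hu i (by have := i.isLt; omega)).1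
    · by_contra h; exact hi (hu i (by have := i.isLt; omega)).2
  let k'' : Fin n := ⟨(k' : ℕ) + 1, hlt⟩
  obtain ⟨g, hg, hge⟩ := exists_map_evec (k := k'') hu hu1
  obtain ⟨l2, hl2, rfl⟩ : g ∈ (lvl A B ((k' : ℕ) + 1)).map π := S.good2.2 ▸ hg
  have h0 : om (evec k') (evec k'' : Vec n F) = 0 := om_evec_evec _ _
  obtain ⟨b1, hb1, hb1e⟩ : eich (evec k') (evec k'') 0 ∈ (B k').map π := by
    rw [S.am.mapB k' hlt]
    refine ⟨fun l => by simp [ap_eich h0, om_evec_evec], fun l h1 h2 => ?_⟩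
    simp [ap_eich h0, om_evec_fvec_ne (fun e : k' = l => h1 (e ▸ rfl)),
      om_evec_fvec_ne (fun e : k'' = l => h2 (e ▸ rfl))]
  refine ⟨l2 * b1 * l2⁻¹ * zk π A k' t, mul_mem (mul_mem (mul_mem (lvl_mono (Nat.le_succ _) hl2)
    (le_lvlB le_rfl hlt hb1)) (inv_mem (lvl_mono (Nat.le_succ _) hl2))) (le_lvlA le_rfl (S.am.zk_spec k' t).1),
    ?_, ?_⟩
  · rw [map_mul, map_mul, map_mul, map_inv, hb1e, (S.am.zk_spec k' t).2, eich_conj _ h0,
      (hg k' (Nat.lt_succ_self _)).1, hge, eich_mul hu0 (om_zero_right _), add_zero, om_zero_right, add_zero,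
      zero_add]
  · have c1 : l2⁻¹ * b0 π B k k' c = b0 π B k k' c * l2⁻¹ := (S.commB_lvl2 hb (inv_mem hl2)).symm
    have c2 : b1 * b0 π B k k' c = b0 π B k k' c * b1 := S.am.commBB hlt S.lt_n hb1 hb
    have c3 : l2 * b0 π B k k' c = b0 π B k k' c * l2 := (S.commB_lvl2 hb hl2).symm
    calc l2 * b1 * l2⁻¹ * zk π A k' t * b0 π B k k' c
        = l2 * b1 * (l2⁻¹ * b0 π B k k' c) * zk π A k' t := by simp only [mul_assoc, hz]
      _ = l2 * (b1 * b0 π B k k' c) * l2⁻¹ * zk π A k' t := by rw [c1]; simp only [mul_assoc]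
      _ = (l2 * b0 π B k k' c) * b1 * l2⁻¹ * zk π A k' t := by rw [c2]; simp only [mul_assoc]
      _ = _ := by rw [c3]; simp only [mul_assoc]

theorem b0_zero : b0 π B k k' 0 = 1 :=
  S.freeP _ (Subgroup.mem_sup_left (S.b0_spec 0).1) (by rw [(S.b0_spec 0).2, zero_smul, eich_zero])

theorem b0_torus {c : F} (hc : c ≠ 0) :
    ∃ d ∈ A k', ap (π d) (evec k') = c • evec k' ∧ b0 π B k k' c = d * b0 π B k k' 1 * d⁻¹ := by
  have h1 : -c⁻¹ ≠ 0 := neg_ne_zero.2 (inv_ne_zero hc)
  refine ⟨(wU π A k' (-c⁻¹)) * wU π A k' 1, mul_mem (S.am.wU_spec k' _).1 (S.am.wU_spec k' _).1, ?_⟩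
  have he : ap (π (wU π A k' (-c⁻¹) * wU π A k' 1)) (evec k') = c • evec k' := by
    rw [map_mul, ap_mul, (S.am.wU_spec k' _).2, (S.am.wU_spec k' _).2, weyl_evec k' one_ne_zero, one_smul,
      weyl_fvec k' h1, inv_neg, inv_inv, neg_neg]
  refine ⟨he, ?_⟩
  set d := wU π A k' (-c⁻¹) * wU π A k' 1
  have hd : d ∈ A k' := mul_mem (S.am.wU_spec k' _).1 (S.am.wU_spec k' _).1
  refine S.freeP'.eq (Subgroup.mem_sup_left (S.b0_spec c).1) (mul_mem (mul_mem (Subgroup.mem_sup_right hd)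
    (Subgroup.mem_sup_left (S.b0_spec 1).1)) (inv_mem (Subgroup.mem_sup_right hd))) ?_
  rw [map_mul, map_mul, map_inv, (S.b0_spec 1).2, (S.b0_spec c).2, eich_conj _ (by
    rw [om_smul_right, om_evec_evec, mul_zero]), one_smul, (S.am.imgA hd k S.ne).1, he]

theorem exists_mov {u : Vec n F} (hu : Supp (k' : ℕ) u) (h : u ≠ 0) :
    ∃ m ∈ L, ap (π m) (evec k') = u := by
  obtain ⟨g, hg, hge⟩ := exists_map_evec (k := k') hu h
  obtain ⟨m, hm, rfl⟩ := S.map_L hg
  exact ⟨m, hm, hge⟩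

theorem qv_zero : qv π A B k k' 0 = 1 := if_pos rfl

theorem qv_spec {m : U} (hm : m ∈ L) (c : F) :
    qv π A B k k' (ap (π m) (c • evec k')) = m * b0 π B k k' c * m⁻¹ := by
  by_cases hc : c = 0
  · rw [hc, zero_smul, ap_zero, S.qv_zero, S.b0_zero, mul_one, mul_inv_cancel]
  have hne : ap (π m) (c • evec k') ≠ 0 :=
    ap_ne_zero _ (smul_ne_zero hc fun h => by simpa [evec] using congrFun h (Sum.inl k'))
  obtain ⟨d, hd, hde, hdb⟩ := S.b0_torus hc
  have hex : ∃ m' ∈ L, ap (π m') (evec k') = ap (π m) (c • evec k') :=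
    ⟨m * d, mul_mem hm (le_lvlA le_rfl hd), by rw [map_mul, ap_mul, hde]⟩
  obtain ⟨m', hm', hm'e, hq⟩ : ∃ m' ∈ L, ap (π m') (evec k') = ap (π m) (c • evec k') ∧
      qv π A B k k' (ap (π m) (c • evec k')) = m' * b0 π B k k' 1 * m'⁻¹ :=
    ⟨_, (Classical.choose_spec hex).1, (Classical.choose_spec hex).2, by rw [qv, if_neg hne, dif_pos hex]⟩
  rw [hq, hdb]
  have hmd : m * d ∈ L := mul_mem hm (le_lvlA le_rfl hd)
  have h := S.stab_comm (m := (m * d)⁻¹ * m') (mul_mem (inv_mem hmd) hm') (by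
    rw [map_mul, ap_mul, hm'e, ← hde, ← ap_mul (π m), ← map_mul, map_inv, ap_inv_ap]) 1
  calc m' * b0 π B k k' 1 * m'⁻¹ = (m * d) * ((m * d)⁻¹ * m' * b0 π B k k' 1) * m'⁻¹ := by group
    _ = (m * d) * (b0 π B k k' 1 * ((m * d)⁻¹ * m')) * m'⁻¹ := by rw [h]
    _ = _ := by group

theorem qv_smul (c : F) : qv π A B k k' (c • evec k') = b0 π B k k' c := by
  simpa using S.qv_spec (one_mem L) c

theorem qv_e' : qv π A B k k' (evec k') = b0 π B k k' 1 := by simpa using S.qv_smul 1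

theorem qv_conj {m : U} (hm : m ∈ L) {u : Vec n F} (hu : Supp (k' : ℕ) u) :
    m * qv π A B k k' u * m⁻¹ = qv π A B k k' (ap (π m) u) := by
  by_cases h : u = 0
  · rw [h, S.qv_zero, ap_zero, S.qv_zero, mul_one, mul_inv_cancel]
  obtain ⟨m1, hm1, rfl⟩ := S.exists_mov hu h
  have h1 := S.qv_spec hm1 1
  rw [one_smul] at h1
  have h2 := S.qv_spec (mul_mem hm hm1) 1
  rw [one_smul, map_mul, ap_mul] at h2
  rw [h1, h2]; group

theorem qv_mem_lvl (u : Vec n F) : qv π A B k k' u ∈ lvl A B (k : ℕ) := by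
  have hL : L ≤ lvl A B (k : ℕ) := lvl_mono (by have := S.succ; omega)
  rw [qv]
  split_ifs with h1 h2
  · exact one_mem _
  · exact mul_mem (mul_mem (hL (Classical.choose_spec h2).1) (le_lvlB le_rfl S.lt_n (S.b0_spec 1).1))
      (inv_mem (hL (Classical.choose_spec h2).1))
  · exact one_mem _

theorem pi_qv {u : Vec n F} (hu : Supp (k' : ℕ) u) : π (qv π A B k k' u) = eich (evec k) u 0 := by
  by_cases h : u = 0
  · rw [h, S.qv_zero, map_one, eich_zero]
  obtain ⟨m, hm, rfl⟩ := S.exists_mov hu h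
  have h1 := S.qv_spec hm 1
  rw [one_smul] at h1
  rw [h1, map_mul, map_mul, map_inv, (S.b0_spec 1).2, one_smul, eich_conj _ (om_evec_evec _ _), (S.L_fix hm).1]

theorem zk_comm_L (t : F) {m : U} (hm : m ∈ L) : zk π A k t * m = m * zk π A k t :=
  S.commAL (S.am.zk_spec k t).1 hm

theorem zk_comm_qv (t : F) (u : Vec n F) :
    zk π A k t * qv π A B k k' u = qv π A B k k' u * zk π A k t := by
  have hb := S.zk_comm_B t (S.b0_spec 1).1
  rw [qv]
  split_ifs with h1 h2
  · rw [mul_one, one_mul]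
  · have hm := (Classical.choose_spec h2).1
    set m := Classical.choose h2
    calc zk π A k t * (m * b0 π B k k' 1 * m⁻¹) = (zk π A k t * m) * b0 π B k k' 1 * m⁻¹ := by group
      _ = m * (zk π A k t * b0 π B k k' 1) * m⁻¹ := by rw [S.zk_comm_L t hm]; group
      _ = m * b0 π B k k' 1 * (zk π A k t * m⁻¹) := by rw [hb]; group
      _ = _ := by rw [S.zk_comm_L t (inv_mem hm)]; group
  · rw [mul_one, one_mul]

theorem zk_add (s t : F) : zk π A k (s + t) = zk π A k s * zk π A k t :=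
  S.freeAk.eq (S.am.zk_spec k _).1 (mul_mem (S.am.zk_spec k _).1 (S.am.zk_spec k _).1) (by
    rw [map_mul, (S.am.zk_spec k _).2, (S.am.zk_spec k _).2, (S.am.zk_spec k _).2,
      eich_mul (om_zero_right _) (om_zero_right _), add_zero, om_zero_right, add_zero])

theorem zk_zero : zk π A k 0 = 1 :=
  S.freeAk _ (S.am.zk_spec k _).1 (by rw [(S.am.zk_spec k _).2, eich_zero])

theorem zk_eq_B (t : F) : zk π A k t ∈ B k := by
  obtain ⟨b, hb, hbe⟩ : eich (evec k) 0 t ∈ (B k).map π := by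
    rw [S.am.mapB k S.lt_n]
    refine ⟨fun l => by simp [ap_trans, om_evec_evec], fun l h1 _ => ?_⟩
    simp [ap_trans, om_evec_fvec_ne (fun e : k = l => h1 (e ▸ rfl))]
  have h := S.freeP.eq (Subgroup.mem_sup_right (S.am.zk_spec k t).1) (Subgroup.mem_sup_left hb)
    (by rw [(S.am.zk_spec k t).2, hbe])
  rwa [h]

theorem qv_add_core {c : F} (hc : c ≠ 0) :
    qv π A B k k' (evec k') * qv π A B k k' (c • fvec k') =
      qv π A B k k' (evec k' + c • fvec k') * zk π A k c := by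
  set d := wU π A k' c with hd
  have hde : ap (π d) (evec k') = c • fvec k' := by rw [hd, (S.am.wU_spec k' c).2, weyl_evec k' hc]
  set d' := zk π A k' c⁻¹ * d with hd'
  have hd'e : ap (π d') (evec k') = evec k' + c • fvec k' := by
    rw [hd', map_mul, ap_mul, hde, (S.am.zk_spec k' _).2, ap_trans, om_smul_right, om_evec_fvec, mul_one,
      inv_mul_cancel₀ hc, one_smul, add_comm]
  have hdA : d ∈ A k' := (S.am.wU_spec k' c).1
  have hd'A : d' ∈ A k' := mul_mem (S.am.zk_spec k' _).1 hdA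
  have hq : ∀ {x : U}, x ∈ A k' → qv π A B k k' (ap (π x) (evec k')) ∈ B k ⊔ A k' := fun {x} hx => by
    have h := S.qv_spec (m := x) (le_lvlA le_rfl hx) 1
    rw [one_smul] at h
    rw [h]
    exact mul_mem (mul_mem (Subgroup.mem_sup_right hx) (Subgroup.mem_sup_left (S.b0_spec 1).1))
      (inv_mem (Subgroup.mem_sup_right hx))
  have hf : Supp (k' : ℕ) (c • fvec k' : Vec n F) := (supp_fvec le_rfl).smul c
  refine S.freeP'.eq (mul_mem (S.qv_e' ▸ Subgroup.mem_sup_left (S.b0_spec 1).1) (hde ▸ hq hdA))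
    (mul_mem (hd'e ▸ hq hd'A) (Subgroup.mem_sup_left (S.zk_eq_B c))) ?_
  rw [map_mul, map_mul, S.pi_qv S.supp_e', S.pi_qv hf, S.pi_qv (S.supp_e'.add hf), (S.am.zk_spec k c).2,
    eich_mul (S.om_e S.supp_e').1 (S.om_e hf).1, eich_mul (S.om_e (S.supp_e'.add hf)).1 (om_zero_right _)]
  simp [om_smul_right, om_evec_fvec]

theorem qv_add_of_ne {u v : Vec n F} (hu : Supp (k' : ℕ) u) (hv : Supp (k' : ℕ) v) (h : om u v ≠ 0) :
    qv π A B k k' u * qv π A B k k' v = qv π A B k k' (u + v) * zk π A k (om u v) := by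
  obtain ⟨m, hm, rfl⟩ := S.exists_mov hu fun e => h (by rw [e, om_zero_left])
  set v1 := ap (π m)⁻¹ v with hv1
  have hv1s : Supp (k' : ℕ) v1 := hv.ap (inv_mem (S.imgL hm))
  have hc : om (evec k') v1 ≠ 0 := by rwa [hv1, ← om_ap (π m), ap_ap_inv]
  set c := om (evec k') v1 with hcd
  set w := v1 - c • fvec k' - v1 (Sum.inl k') • evec k' with hw
  have hws : Supp ((k' : ℕ) + 1) w := by
    intro l hl
    rcases Nat.lt_succ_iff_lt_or_eq.1 hl with h' | h'
    · exact ((hv1s.sub ((supp_fvec le_rfl).smul c)).sub ((supp_evec le_rfl).smul _)) l h'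
    · rw [Fin.ext h']
      constructor
      · simp [hw, fvec, evec]
      · have hc' : c = v1 (Sum.inr k') := om_evec k' v1
        simp [hw, fvec, evec, hc']
  have hw0 : om (evec k') (c⁻¹ • w) = 0 := by
    rw [om_smul_right, (hws.om_left (Nat.lt_succ_self _)).1, mul_zero]
  obtain ⟨m2, hm2, hm2e⟩ := S.map_L (g := eich (evec k') (c⁻¹ • w) (v1 (Sum.inl k') / c))
    (eich_mem_lowFix S.supp_e' ((hws.mono (Nat.le_succ _)).smul _) hw0 _)
  have e1 : ap (π m2) (evec k') = evec k' := by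
    rw [hm2e, ap_eich hw0, om_self, om_skew, hw0]; simp
  have e2 : ap (π m2) (c • fvec k') = v1 := by
    have hwf : om w (fvec k') = 0 := by rw [om_skew, (hws.om_left (Nat.lt_succ_self _)).2, neg_zero]
    rw [hm2e, ap_smul, ap_eich hw0, om_smul_left, hwf, om_evec_fvec]
    simp only [mul_zero, zero_smul, add_zero, one_smul, mul_one, smul_add, smul_smul]
    rw [hw]
    match_scalars <;> field_simp <;> ring
  have hM : m * m2 ∈ L := mul_mem hm hm2
  have hf : Supp (k' : ℕ) (c • fvec k' : Vec n F) := (supp_fvec le_rfl).smul c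
  have a1 := S.qv_conj hM S.supp_e'
  have a2 := S.qv_conj hM hf
  have a3 := S.qv_conj hM (S.supp_e'.add hf)
  simp only [map_mul, ap_mul, ap_add, e1, e2, hv1, ap_ap_inv] at a1 a2 a3
  have hom : om (ap (π m) (evec k')) v = c := by
    conv_rhs => rw [hcd, hv1, ← om_ap (π m), ap_ap_inv]
  have hzc := S.zk_comm_L c (inv_mem hM)
  rw [hom, ← a1, ← a2, ← a3]
  calc _ = (m * m2) * (qv π A B k k' (evec k') * qv π A B k k' (c • fvec k')) * (m * m2)⁻¹ := by group
    _ = (m * m2) * qv π A B k k' (evec k' + c • fvec k') * (zk π A k c * (m * m2)⁻¹) := by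
      rw [S.qv_add_core hc]; group
    _ = _ := by rw [hzc]; group

theorem qv_add {u v : Vec n F} (hu : Supp (k' : ℕ) u) (hv : Supp (k' : ℕ) v) :
    qv π A B k k' u * qv π A B k k' v = qv π A B k k' (u + v) * zk π A k (om u v) := by
  by_cases hu0 : u = 0
  · rw [hu0, S.qv_zero, one_mul, zero_add, om_zero_left, S.zk_zero, mul_one]
  by_cases h : om u v ≠ 0
  · exact S.qv_add_of_ne hu hv h
  push Not at h
  obtain ⟨m, hm, rfl⟩ := S.exists_mov hu hu0
  set v1 := ap (π m)⁻¹ v with hv1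
  have hv1s : Supp (k' : ℕ) v1 := hv.ap (inv_mem (S.imgL hm))
  have hc : om (evec k') v1 = 0 := by rwa [hv1, ← om_ap (π m), ap_ap_inv]
  suffices qv π A B k k' (evec k') * qv π A B k k' v1 =
      qv π A B k k' (evec k' + v1) by
    have a1 := S.qv_conj hm S.supp_e'
    have a2 := S.qv_conj hm hv1s
    have a3 := S.qv_conj hm (S.supp_e'.add hv1s)
    simp only [ap_add, hv1, ap_ap_inv] at a1 a2 a3
    rw [h, S.zk_zero, mul_one, ← a1, ← a2, ← a3, ← hv1, ← this]
    group
  set r := v1 (Sum.inl k') with hr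
  set w := v1 - r • evec k' with hw
  have hws : Supp ((k' : ℕ) + 1) w := by
    intro l hl
    rcases Nat.lt_succ_iff_lt_or_eq.1 hl with h' | h'
    · exact (hv1s.sub ((supp_evec le_rfl).smul _)) l h'
    · rw [Fin.ext h']
      rw [om_evec] at hc
      constructor
      · simp [hw, evec, hr]
      · simp [hw, evec, hc]
  by_cases hw0 : w = 0
  · rw [hw, sub_eq_zero] at hw0
    rw [hw0, show (evec k' : Vec n F) + r • evec k' = (1 + r) • evec k' by rw [add_smul, one_smul],
      S.qv_e', S.qv_smul, S.qv_smul]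
    have h0 : ∀ a : F, om (evec k) (a • evec k' : Vec n F) = 0 := fun a => by
      rw [om_smul_right, om_evec_evec, mul_zero]
    refine S.freeP.eq (mul_mem (Subgroup.mem_sup_left (S.b0_spec 1).1) (Subgroup.mem_sup_left (S.b0_spec r).1))
      (Subgroup.mem_sup_left (S.b0_spec _).1) ?_
    rw [map_mul, (S.b0_spec 1).2, (S.b0_spec r).2, (S.b0_spec _).2, eich_mul (h0 1) (h0 r), ← add_smul,
      om_smul_left, om_smul_right, om_self]
    simp
  obtain ⟨α, hα0, hα1⟩ := S.am.field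
  obtain ⟨z, hz, hzw⟩ := exists_pairing hws hw0 (α + r)
  have hzs : Supp (k' : ℕ) z := hz.mono (Nat.le_succ _)
  set y := fvec k' + z with hy
  have hys : Supp (k' : ℕ) y := (supp_fvec le_rfl).add hzs
  have hey : om (evec k') y = 1 := by
    rw [hy, om_add_right, om_evec_fvec, (hz.om_left (Nat.lt_succ_self _)).1, add_zero]
  have hyv : om y v1 = α := by
    rw [show v1 = w + r • evec k' by rw [hw]; abel, hy, om_add_left, om_add_right, om_add_right,
      om_smul_right, om_smul_right, (hws.om_left (Nat.lt_succ_self _)).2, hzw, om_fvec_evec,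
      show om z (evec k') = 0 by rw [om_skew, (hz.om_left (Nat.lt_succ_self _)).1, neg_zero]]
    ring
  set v2 := v1 - y with hv2
  have hv2s : Supp (k' : ℕ) v2 := hv1s.sub hys
  have o1 : om y v2 = α := by rw [hv2, om_sub_right, hyv, om_self, sub_zero]
  have o2 : om (evec k' + y) v2 = α - 1 := by
    rw [om_add_left, o1, hv2, om_sub_right, hc, hey]; ring
  have b1 := S.qv_add_of_ne hys hv2s (by rw [o1]; exact hα0)
  rw [show y + v2 = v1 by rw [hv2]; abel, o1] at b1
  have b2 := S.qv_add_of_ne S.supp_e' hys (by rw [hey]; exact one_ne_zero)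
  rw [hey] at b2
  have b3 := S.qv_add_of_ne (S.supp_e'.add hys) hv2s (by rw [o2]; exact sub_ne_zero.2 hα1)
  rw [show evec k' + y + v2 = evec k' + v1 by rw [hv2]; abel, o2] at b3
  refine mul_right_cancel (b := zk π A k α) ?_
  calc qv π A B k k' (evec k') * qv π A B k k' v1 * zk π A k α
      = qv π A B k k' (evec k') * qv π A B k k' y * qv π A B k k' v2 := by rw [mul_assoc, ← b1, mul_assoc]
    _ = qv π A B k k' (evec k' + y) * qv π A B k k' v2 * zk π A k 1 := by
      rw [b2, mul_assoc, S.zk_comm_qv, ← mul_assoc]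
    _ = qv π A B k k' (evec k' + v1) * zk π A k α := by
      rw [b3, mul_assoc, ← S.zk_add, sub_add_cancel]

/-- The general element of the radical. -/
noncomputable def q2 (_S : Step π A B k k') (u : Vec n F) (t : F) : U := qv π A B k k' u * zk π A k t

theorem q2_zero_left (t : F) : S.q2 0 t = zk π A k t := by rw [q2, S.qv_zero, one_mul]

theorem q2_zero : S.q2 0 0 = 1 := by rw [S.q2_zero_left, S.zk_zero]

theorem q2_mul {u v : Vec n F} (hu : Supp (k' : ℕ) u) (hv : Supp (k' : ℕ) v) (s t : F) :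
    S.q2 u s * S.q2 v t = S.q2 (u + v) (s + t + om u v) := by
  simp only [q2]
  calc qv π A B k k' u * zk π A k s * (qv π A B k k' v * zk π A k t)
      = qv π A B k k' u * (zk π A k s * qv π A B k k' v) * zk π A k t := by group
    _ = (qv π A B k k' u * qv π A B k k' v) * (zk π A k s * zk π A k t) := by rw [S.zk_comm_qv]; group
    _ = _ := by rw [S.qv_add hu hv, mul_assoc, ← S.zk_add, ← S.zk_add]; congr 2; ring

theorem q2_inv {u : Vec n F} (hu : Supp (k' : ℕ) u) (t : F) : (S.q2 u t)⁻¹ = S.q2 (-u) (-t) := by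
  refine inv_eq_of_mul_eq_one_right ?_
  rw [S.q2_mul hu hu.neg, add_neg_cancel, om_neg_right, om_self, neg_zero, add_zero, add_neg_cancel, S.q2_zero]

theorem pi_q2 {u : Vec n F} (hu : Supp (k' : ℕ) u) (t : F) : π (S.q2 u t) = eich (evec k) u t := by
  rw [q2, map_mul, S.pi_qv hu, (S.am.zk_spec k t).2, eich_mul (S.om_e hu).1 (om_zero_right _)]
  simp

theorem q2_conj {m : U} (hm : m ∈ L) {u : Vec n F} (hu : Supp (k' : ℕ) u) (t : F) :
    m * S.q2 u t * m⁻¹ = S.q2 (ap (π m) u) t := by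
  simp only [q2]
  rw [← S.qv_conj hm hu]
  calc m * (qv π A B k k' u * zk π A k t) * m⁻¹ = m * qv π A B k k' u * (zk π A k t * m⁻¹) := by group
    _ = _ := by rw [S.zk_comm_L t (inv_mem hm)]; group

theorem q2_mem_lvl (u : Vec n F) (t : F) : S.q2 u t ∈ lvl A B (k : ℕ) :=
  mul_mem (S.qv_mem_lvl u) (le_lvlA le_rfl (S.am.zk_spec k t).1)

end Step

end Cfsg.Agent.SpAmalgam
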